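import Mathlib.FieldTheory.Minpoly.Basic
import Mathlib.FieldTheory.Minpoly.IsIntegrallyClosed
import Mathlib.Analysis.Complex.Polynomial.Basic
import Mathlib.Analysis.Polynomial.Basic
import Mathlib.Analysis.SpecialFunctions.Pow.Real
import Mathlib.Algebra.Polynomial.Reverse
import Mathlib.Topology.Order.IntermediateValue
import Mathlib.Topology.Algebra.Polynomial

/-!
# The functional equation of a polynomial all of whose complex roots have absolute value `√q`
-/

set_option autoImplicit false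

open Polynomial

namespace Groth.Agent.WeilNumLib

/-- A monic integer polynomial all of whose complex roots have square absolute value `q`. -/
structure IsWeilPoly (q : ℤ) (P : ℤ[X]) : Prop where
  monic : P.Monic
  norm_sq : ∀ z ∈ P.aroots ℂ, ‖z‖ ^ 2 = (q : ℝ)

theorem IsWeilPoly.one (q : ℤ) : IsWeilPoly q 1 :=
  ⟨monic_one, fun z hz => by simp at hz⟩

theorem IsWeilPoly.mul {q : ℤ} {P Q : ℤ[X]} (hP : IsWeilPoly q P) (hQ : IsWeilPoly q Q) :
    IsWeilPoly q (P * Q) := by
  refine ⟨hP.monic.mul hQ.monic, fun z hz => ?_⟩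
  rw [aroots_mul (mul_ne_zero hP.monic.ne_zero hQ.monic.ne_zero), Multiset.mem_add] at hz
  exact hz.elim (hP.norm_sq z) (hQ.norm_sq z)

theorem IsWeilPoly.prod {ι : Type*} {q : ℤ} (s : Finset ι) {P : ι → ℤ[X]}
    (h : ∀ i ∈ s, IsWeilPoly q (P i)) : IsWeilPoly q (∏ i ∈ s, P i) :=
  Finset.prod_induction _ (IsWeilPoly q) (fun _ _ => IsWeilPoly.mul) (IsWeilPoly.one q) h

theorem prod_reverse (s : Multiset ℂ[X]) : s.prod.reverse = (s.map reverse).prod := by
  induction s using Multiset.induction with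
  | empty => simpa using reverse_C (1 : ℂ)
  | cons a s ih => simp [reverse_mul_of_domain, ih]

theorem reverse_C_mul_X_sub_C {a b : ℂ} (ha : a ≠ 0) :
    (C a * X - C b).reverse = C a - C b * X := by
  have hd : (C a * X - C b).natDegree = 1 := natDegree_sub_C.trans (natDegree_C_mul_X a ha)
  have h0 : (C a * X - C b).coeff 0 = -b := by simp [coeff_C]
  have h1 : (C a * X - C b).coeff 1 = a := by simp [coeff_C]
  ext n
  rw [coeff_reverse, hd]
  rcases n with - | - | n
  · simp only [revAt_le (show 0 ≤ 1 by omega)]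
    simp [h1]
  · simp only [revAt_le (show 0 + 1 ≤ 1 by omega)]
    simp [h0]
  · rw [revAt_eq_self_of_lt (show 1 < n + 2 by omega)]
    simp

/-- The coefficients of a Weil polynomial: `a_j q^j = a_0 a_{n-j}`. -/
theorem IsWeilPoly.coeff_mul_pow {q : ℤ} {P : ℤ[X]} (hP : IsWeilPoly q P) (hq : q ≠ 0)
    {j : ℕ} (hj : j ≤ P.natDegree) :
    P.coeff j * q ^ j = P.coeff 0 * P.coeff (P.natDegree - j) := by
  set n := P.natDegree with hn
  set f := P.map (Int.castRingHom ℂ) with hf
  have hfm : f.Monic := hP.monic.map _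
  have hfd : f.natDegree = n := hP.monic.natDegree_map _
  have hroots : f = (f.roots.map fun z => X - C z).prod :=
    (IsAlgClosed.splits f).eq_prod_roots_of_monic hfm
  have hqc : (q : ℂ) ≠ 0 := by exact_mod_cast hq
  have hmem : ∀ z ∈ f.roots, ‖z‖ ^ 2 = (q : ℝ) := fun z hz => hP.norm_sq z (by rwa [aroots_def])
  have key : (f.comp (C (q : ℂ) * X)).reverse = C (f.coeff 0) * f := by
    have hstar : f.map (starRingEnd ℂ) = f := by
      rw [hf, map_map, RingHom.ext_int ((starRingEnd ℂ).comp (Int.castRingHom ℂ)) (Int.castRingHom ℂ)]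
    have h0 : f.coeff 0 = (f.roots.map fun z => -z).prod := by
      conv_lhs => rw [hroots]
      rw [coeff_zero_multiset_prod, Multiset.map_map]
      simp
    have hconj : f = (f.roots.map fun z => X - C (starRingEnd ℂ z)).prod := by
      conv_lhs => rw [← hstar, hroots]
      rw [Polynomial.map_multiset_prod, Multiset.map_map]
      simp
    conv_lhs => rw [hroots]
    conv_rhs => arg 2; rw [hconj]
    rw [h0, map_multiset_prod, Multiset.map_map, ← Multiset.prod_map_mul,
      multiset_prod_comp, Multiset.map_map, prod_reverse, Multiset.map_map]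
    refine congrArg Multiset.prod (Multiset.map_congr rfl fun z hz => ?_)
    simp only [Function.comp_apply]
    rw [sub_comp, X_comp, C_comp, reverse_C_mul_X_sub_C hqc]
    have hz2 : z * starRingEnd ℂ z = (q : ℂ) := by
      rw [Complex.mul_conj, Complex.normSq_eq_norm_sq, hmem z hz, Complex.ofReal_intCast]
    rw [← hz2, map_mul, map_neg]
    ring
  have h := congrArg (fun g => g.coeff (n - j)) key
  simp only [coeff_C_mul] at h
  rw [coeff_reverse, show (f.comp (C (q : ℂ) * X)).natDegree = n by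
    rw [natDegree_comp, natDegree_C_mul_X _ hqc, mul_one, hfd], revAt_le (by omega),
    show n - (n - j) = j by omega, comp_C_mul_X_coeff] at h
  simp only [hf, coeff_map, eq_intCast] at h
  exact_mod_cast h

theorem IsWeilPoly.sq_coeff_zero {q : ℤ} {P : ℤ[X]} (hP : IsWeilPoly q P) (hq : q ≠ 0) :
    P.coeff 0 ^ 2 = q ^ P.natDegree := by
  have h := hP.coeff_mul_pow hq (le_refl P.natDegree)
  rw [hP.monic.coeff_natDegree, Nat.sub_self, one_mul] at h
  rw [h]; ring

theorem IsWeilPoly.coeff_zero_ne_zero {q : ℤ} {P : ℤ[X]} (hP : IsWeilPoly q P) (hq : q ≠ 0) :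
    P.coeff 0 ≠ 0 := fun h => pow_ne_zero P.natDegree hq (by rw [← hP.sq_coeff_zero hq, h]; ring)

/-- In even degree `2D` the constant coefficient is `ε q^D` and `a_{D-r} = ε q^r a_{D+r}`. -/
theorem IsWeilPoly.even_degree {q : ℤ} {P : ℤ[X]} (hP : IsWeilPoly q P) (hq : q ≠ 0)
    {D : ℕ} (hD : P.natDegree = 2 * D) :
    ∃ ε : ℤ, ε * ε = 1 ∧ P.coeff 0 = ε * q ^ D ∧
      ∀ r ≤ D, P.coeff (D - r) = ε * q ^ r * P.coeff (D + r) := by
  obtain ⟨ε, hε, h0⟩ : ∃ ε : ℤ, ε * ε = 1 ∧ P.coeff 0 = ε * q ^ D := by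
    have h := hP.sq_coeff_zero hq
    rw [hD] at h
    rcases sq_eq_sq_iff_eq_or_eq_neg.1 (h.trans (by ring : q ^ (2 * D) = (q ^ D) ^ 2)) with h | h
    · exact ⟨1, one_mul 1, by rw [h, one_mul]⟩
    · exact ⟨-1, by norm_num, by rw [h, neg_one_mul]⟩
  refine ⟨ε, hε, h0, fun r hr => ?_⟩
  have h := hP.coeff_mul_pow hq (show D - r ≤ P.natDegree by omega)
  rw [h0, show P.natDegree - (D - r) = D + r by omega] at h
  apply mul_right_cancel₀ (pow_ne_zero (D - r) hq)
  rw [h]
  have : q ^ D = q ^ r * q ^ (D - r) := by rw [← pow_add]; congr 1; omega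
  rw [this]
  ring

/-- A monic polynomial without real roots is positive at `0`. -/
theorem eval_zero_pos_of_no_root {P : ℝ[X]} (hP : P.Monic) (h : ∀ x, P.eval x ≠ 0) :
    0 < P.eval 0 := by
  rcases Nat.eq_zero_or_pos P.natDegree with hd | hd
  · rw [eq_one_of_monic_natDegree_zero hP hd]; simp
  · by_contra hneg
    push Not at hneg
    obtain ⟨M, h0M, hM⟩ := ((P.tendsto_atTop_of_leadingCoeff_nonneg
      (natDegree_pos_iff_degree_pos.1 hd) (by rw [hP.leadingCoeff]; norm_num)).eventually_ge_atTop 0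
        |>.and (Filter.eventually_ge_atTop 0)).exists
    obtain ⟨x, -, hx⟩ := intermediate_value_Icc hM P.continuous.continuousOn ⟨hneg, h0M⟩
    exact h x hx

/-- A Weil polynomial without real roots has even degree and positive constant term. -/
theorem IsWeilPoly.nonreal {q : ℤ} {P : ℤ[X]} (hP : IsWeilPoly q P)
    (hnr : ∀ z ∈ P.aroots ℂ, z.im ≠ 0) : Even P.natDegree ∧ 0 < P.coeff 0 := by
  set f := P.map (Int.castRingHom ℝ) with hf
  have hfm : f.Monic := hP.monic.map _
  have hno : ∀ x, f.eval x ≠ 0 := by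
    intro x hx
    refine hnr (algebraMap ℝ ℂ x) ?_ (by simp)
    rw [mem_aroots, aeval_def, RingHom.ext_int (algebraMap ℤ ℂ) (Int.castRingHom ℂ)]
    exact ⟨hP.monic.ne_zero, by
      rw [← eval_map, show Int.castRingHom ℂ = (algebraMap ℝ ℂ).comp (Int.castRingHom ℝ) from
        RingHom.ext_int _ _, ← map_map, ← hf, eval_map_apply, hx, map_zero]⟩
  have hfd : f.natDegree = P.natDegree := hP.monic.natDegree_map _
  have hpos := eval_zero_pos_of_no_root hfm hno
  constructor
  · by_contra hodd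
    rw [Nat.not_even_iff_odd] at hodd
    have hgm : (-f.comp (-X)).Monic := by
      rw [Monic.def, leadingCoeff_neg, leadingCoeff_comp (by simp), hfm.leadingCoeff, hfd,
        leadingCoeff_neg, leadingCoeff_X, hodd.neg_one_pow]
      norm_num
    have h2 := eval_zero_pos_of_no_root hgm (fun x => by simpa using hno (-x))
    simp at h2
    linarith
  · rw [← coeff_zero_eq_eval_zero, hf, coeff_map] at hpos
    simpa using hpos

theorem IsWeilPoly.of_minpoly {p e : ℕ} {K : Type*} [Field K] [CharZero K] {π : K}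
    (hπ : IsIntegral ℤ π)
    (hweil : ∀ z ∈ (minpoly ℤ π).aroots ℂ, ‖z‖ = Real.sqrt ((p : ℝ) ^ e)) :
    IsWeilPoly ((p : ℤ) ^ e) (minpoly ℤ π) :=
  ⟨minpoly.monic hπ, fun z hz => by rw [hweil z hz, Real.sq_sqrt (by positivity)]; push_cast; rfl⟩

end Groth.Agent.WeilNumLib
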