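import Groth.Agent.WeilNumLib.Quot
import Mathlib.RingTheory.Coprime.Lemmas
import Mathlib.Algebra.Algebra.Pi
import Mathlib.RingTheory.PrincipalIdealDomain
import Mathlib.RingTheory.Polynomial.RationalRoot
import Mathlib.RingTheory.Int.Basic
import Mathlib.Algebra.Group.Pi.Units

/-!
# Finite families of pairwise nonconjugate Weil numbers
-/

set_option autoImplicit false

universe u

open Polynomial

namespace Groth.Agent.WeilNumLib

theorem natCast_pow_ne_zero (p e : ℕ) [Fact p.Prime] : ((p : ℤ) ^ e) ≠ 0 :=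
  pow_ne_zero _ (by exact_mod_cast (Fact.out : p.Prime).ne_zero)

theorem root_ne_zero {q : ℤ} (hq : q ≠ 0) {K : Type*} [Field K] [CharZero K] {π : K}
    (hW : IsWeilPoly q (minpoly ℤ π)) (hπ : IsIntegral ℤ π) : π ≠ 0 := by
  intro h
  have h0 : ((minpoly ℤ π).coeff 0 : K) = 0 := by
    have := minpoly.aeval ℤ π
    simpa [h, aeval_def, eval₂_at_zero] using this
  exact hW.coeff_zero_ne_zero hq (by exact_mod_cast h0)

theorem prod_dvd_of_aeval_eq_zero {ι : Type*} [Fintype ι] {K : ι → Type u} [∀ i, Field (K i)]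
    [∀ i, CharZero (K i)] {π : ∀ i, K i} (hint : ∀ i, IsIntegral ℤ (π i))
    (hinj : ∀ i j, minpoly ℤ (π i) = minpoly ℤ (π j) → i = j) {G : ℤ[X]}
    (hG : ∀ i, aeval (π i) G = 0) : ∏ i, minpoly ℤ (π i) ∣ G := by
  classical
  have hm : (∏ i, minpoly ℤ (π i)).Monic := monic_prod_of_monic _ _ fun i _ => minpoly.monic (hint i)
  rw [← Polynomial.map_dvd_map (algebraMap ℤ ℚ) (algebraMap ℤ ℚ).injective_int hm, Polynomial.map_prod]
  refine Fintype.prod_dvd_of_coprime (fun i j hij => ?_) (fun i => ?_)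
  · have key : ∀ i, Irreducible ((minpoly ℤ (π i)).map (algebraMap ℤ ℚ)) := fun i =>
      (minpoly.monic (hint i)).irreducible_iff_irreducible_map_fraction_map.1
        (minpoly.irreducible (hint i))
    refine ((key i).isCoprime_or_dvd _).resolve_right fun hd => hij (hinj i j ?_)
    have := eq_of_monic_of_associated ((minpoly.monic (hint i)).map _) ((minpoly.monic (hint j)).map _)
      ((key i).associated_of_dvd (key j) hd)
    exact Polynomial.map_injective _ (algebraMap ℤ ℚ).injective_int this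
  · exact Polynomial.map_dvd _ (minpoly.isIntegrallyClosed_dvd (hint i) (hG i))

variable (p e : ℕ) [Fact p.Prime] {ι : Type} [Fintype ι] (K : ι → Type u) [∀ i, Field (K i)]
  [∀ i, CharZero (K i)] (π : ∀ i, K i)

theorem isWeilPoly_prod (hint : ∀ i, IsIntegral ℤ (π i))
    (hweil : ∀ i, ∀ z ∈ (minpoly ℤ (π i)).aroots ℂ, ‖z‖ = Real.sqrt ((p : ℝ) ^ e)) :
    IsWeilPoly ((p : ℤ) ^ e) (∏ i, minpoly ℤ (π i)) :=
  IsWeilPoly.prod _ fun i _ => IsWeilPoly.of_minpoly (hint i) (hweil i)

theorem natDegree_prod_minpoly (hint : ∀ i, IsIntegral ℤ (π i)) :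
    (∏ i, minpoly ℤ (π i)).natDegree = ∑ i, (minpoly ℤ (π i)).natDegree :=
  natDegree_prod _ _ fun i _ => minpoly.ne_zero (hint i)

/-- The point `(π_i), (q/π_i)` of a family. -/
noncomputable def familyPt (hint : ∀ i, IsIntegral ℤ (π i))
    (hweil : ∀ i, ∀ z ∈ (minpoly ℤ (π i)).aroots ℂ, ‖z‖ = Real.sqrt ((p : ℝ) ^ e))
    (hinj : ∀ i j, minpoly ℤ (π i) = minpoly ℤ (π j) → i = j)
    (D : ℕ) (hD : ∑ i, (minpoly ℤ (π i)).natDegree = 2 * D) :
    MinPt ((p : ℤ) ^ e) (∏ i, minpoly ℤ (π i)) D ((i : ι) → K i) where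
  f := fun i => π i
  v := fun i => ((p : K i) ^ e) / π i
  mul_eq := by
    funext i
    have h := root_ne_zero (natCast_pow_ne_zero p e) (IsWeilPoly.of_minpoly (hint i) (hweil i)) (hint i)
    simp [mul_div_cancel₀ _ h]
  isUnit := Pi.isUnit_iff.2 fun i => isUnit_iff_ne_zero.2
    (root_ne_zero (natCast_pow_ne_zero p e) (IsWeilPoly.of_minpoly (hint i) (hweil i)) (hint i))
  root := by
    funext i
    have h := (aeval_algHom_apply (Pi.evalAlgHom ℤ K i) (fun i => π i) (∏ i, minpoly ℤ (π i))).symm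
    simp only [Pi.evalAlgHom_apply] at h
    refine h.trans ?_
    rw [map_prod]
    exact Finset.prod_eq_zero (Finset.mem_univ i) (minpoly.aeval ℤ (π i))
  indep := fun G hdeg hG => by
    by_contra h0
    have hdvd := prod_dvd_of_aeval_eq_zero hint hinj (G := G) fun i => by
      have h := aeval_algHom_apply (Pi.evalAlgHom ℤ K i) (fun i => π i) G
      simp only [Pi.evalAlgHom_apply] at h
      exact h.trans (congrFun hG i)
    have hle := natDegree_le_of_dvd hdvd h0
    rw [natDegree_prod_minpoly K π hint, hD] at hle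
    have := (natDegree_lt_iff_degree_lt h0).2 hdeg
    omega

end Groth.Agent.WeilNumLib
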