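import Groth.Agent.WeilNumLib.Family
import Groth.Agent.LC.GorRing
import Groth.Agent.LC.GorLCI
import Mathlib.RingTheory.RegularLocalRing.Polynomial
import Mathlib.RingTheory.DedekindDomain.PID
import Mathlib.Algebra.MvPolynomial.Equiv

/-!
# The minimal order of an even family is a complete intersection, hence Gorenstein
-/

set_option autoImplicit false

universe u

namespace Groth.Agent.WeilNumLib

/-- `ℤ[F, V]` with coefficients lifted to an arbitrary universe. -/
abbrev FVu : Type u := MvPolynomial (Fin 2) (ULift.{u} ℤ)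

/-- The comparison `FVu ≃+* FV`. -/
noncomputable def evu : FVu.{u} ≃+* FV := MvPolynomial.mapEquiv (Fin 2) ULift.ringEquiv

theorem gorensteinRing_FVu : LocCoh.IsGorensteinRing FVu.{u} := by
  haveI : IsPrincipalIdealRing (ULift.{u} ℤ) :=
    IsPrincipalIdealRing.of_surjective (ULift.ringEquiv.{0, u} (R := ℤ)).symm.toRingHom
      (ULift.ringEquiv.{0, u} (R := ℤ)).symm.surjective
  haveI : IsDomain (ULift.{u} ℤ) := (ULift.ringEquiv.{0, u} (R := ℤ)).isDomain
  exact LC.gorensteinRing_of_isRegularRing _

theorem MinPt.gorensteinRing {q : ℤ} {P : Polynomial ℤ} {D : ℕ} {A : Type u} [CommRing A]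
    (x : MinPt q P D A) (hP : IsWeilPoly q P) (hq : q ≠ 0) (hD : P.natDegree = 2 * D) :
    LocCoh.IsGorensteinRing x.eval.range := by
  obtain ⟨h, hh⟩ := exists_isSymOf hP hq hD
  haveI := gorensteinRing_FVu.{u}
  let π : FVu.{u} →+* x.eval.range := x.eval.rangeRestrict.toRingHom.comp evu.toRingHom
  have hπ : Function.Surjective π :=
    (AlgHom.rangeRestrict_surjective x.eval).comp evu.surjective
  haveI : IsNoetherianRing x.eval.range := isNoetherianRing_of_surjective _ _ π hπ
  refine LC.gorensteinRing_of_atPrime fun p _ => ?_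
  haveI : IsLocalization (⊥ : Submonoid FVu.{u}) FVu.{u} := IsLocalization.self fun z hz => by
    rw [Submonoid.mem_bot.1 hz]; exact isUnit_one
  let a : FVu.{u} := evu.symm (rel q)
  let b : FVu.{u} := evu.symm h
  refine LC.gorenstein_atPrime_of_rel π hπ p ⊥ (fun z hz => ?_) FVu.{u} ![a, b] (fun c hc => ?_) ?_
  · rw [Submonoid.mem_bot.1 hz, map_one]
    exact fun h1 => Ideal.IsPrime.ne_top ‹p.IsPrime› ((Ideal.eq_top_iff_one p).2 h1)
  · have hc' : c 0 * a + c 1 * b = 0 := by
      simpa [DefGlueLib.dot_apply, Fin.sum_univ_two] using hc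
    obtain ⟨t, ht⟩ : ∃ t, c 1 = t * a := by
      have h1 : evu (c 1) * h ∈ relIdeal q := by
        have := congrArg evu hc'
        simp only [map_add, map_mul, map_zero, a, b, RingEquiv.apply_symm_apply] at this
        rw [eq_neg_of_add_eq_zero_right this]
        exact neg_mem (Ideal.mul_mem_left _ _ (Ideal.mem_span_singleton_self _))
      obtain ⟨t, ht⟩ := Ideal.mem_span_singleton'.1
        (((isPrime_relIdeal hq).mem_or_mem h1).resolve_right (hh.not_mem hP.monic.ne_zero hq))
      exact ⟨evu.symm t, evu.injective (by simp only [map_mul, a, RingEquiv.apply_symm_apply, ht])⟩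
    have ha : a ≠ 0 := fun h => rel_ne_zero q (evu.symm.injective (h.trans (map_zero _).symm))
    haveI : IsDomain (ULift.{u} ℤ) := (ULift.ringEquiv.{0, u} (R := ℤ)).isDomain
    have h0 : c 0 = -t * b := by
      apply mul_right_cancel₀ ha
      rw [ht] at hc'
      linear_combination hc'
    have : c = t • (![a, b] 0 • Pi.single (1 : Fin 2) (1 : FVu.{u}) -
        ![a, b] 1 • Pi.single (0 : Fin 2) (1 : FVu.{u})) := by
      funext i
      fin_cases i <;> simp [ht, h0] <;> ring
    rw [this]
    exact Submodule.smul_mem _ t (Submodule.subset_span ⟨(1, 0), rfl⟩)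
  · have hker : RingHom.ker π = (symIdeal q h).map evu.symm.toRingHom := by
      ext z
      have hm : (symIdeal q h).map evu.symm.toRingHom = (symIdeal q h).comap evu.toRingHom :=
        Ideal.map_symm evu
      rw [hm, Ideal.mem_comap, ← x.ker_eq hh hP hq hD, RingHom.mem_ker, RingHom.mem_ker]
      exact Subtype.ext_iff
    rw [hker, symIdeal, Ideal.map_span, Ideal.map_span]
    congr 1
    simp [a, b, Set.image_insert_eq, Set.image_singleton, Matrix.range_cons, Matrix.range_empty, Set.pair_comm]

end Groth.Agent.WeilNumLib
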