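import Groth.Agent.WeilNumLib.Quot
import Groth.Agent.EGA41Lib.IntDim
import Mathlib.LinearAlgebra.Dimension.Free
import Mathlib.LinearAlgebra.Dimension.Finite
import Mathlib.LinearAlgebra.Determinant
import Mathlib.RingTheory.KrullDimension.Basic
import Mathlib.RingTheory.KrullDimension.PID

/-!
# The minimal order: freeness, rank, dimension, modules
-/

set_option autoImplicit false

open Polynomial

namespace Groth.Agent.WeilNumLib

variable {q : ℤ} {P : ℤ[X]} {D : ℕ} {A : Type*} [CommRing A]

/-- The basis of the image. -/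
noncomputable def MinPt.basis (x : MinPt q P D A) (hP : IsWeilPoly q P) (hq : q ≠ 0)
    (hD : P.natDegree = 2 * D) :
    Module.Basis (Fin D ⊕ Fin D) ℤ x.eval.range :=
  (Module.Basis.span (x.linearIndependent hq)).map
    (LinearEquiv.ofEq _ _ (x.range_eq_span hP hq hD).symm)

theorem MinPt.free (x : MinPt q P D A) (hP : IsWeilPoly q P) (hq : q ≠ 0)
    (hD : P.natDegree = 2 * D) : Module.Free ℤ x.eval.range :=
  Module.Free.of_basis (x.basis hP hq hD)

theorem MinPt.finite (x : MinPt q P D A) (hP : IsWeilPoly q P) (hq : q ≠ 0)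
    (hD : P.natDegree = 2 * D) : Module.Finite ℤ x.eval.range :=
  Module.Finite.of_basis (x.basis hP hq hD)

theorem MinPt.finrank (x : MinPt q P D A) (hP : IsWeilPoly q P) (hq : q ≠ 0)
    (hD : P.natDegree = 2 * D) : Module.finrank ℤ x.eval.range = 2 * D := by
  rw [Module.finrank_eq_card_basis (x.basis hP hq hD), Fintype.card_sum, Fintype.card_fin, two_mul]

theorem MinPt.ringKrullDim_range (x : MinPt q P D A) (hP : IsWeilPoly q P) (hq : q ≠ 0)
    (hD : P.natDegree = 2 * D) (hD0 : 0 < D) : ringKrullDim x.eval.range = 1 := by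
  haveI := x.finite hP hq hD
  haveI := x.free hP hq hD
  haveI : Nontrivial x.eval.range := by
    refine not_subsingleton_iff_nontrivial.1 fun h => ?_
    have := x.finrank hP hq hD
    rw [Module.finrank_zero_of_subsingleton] at this
    omega
  haveI : Algebra.IsIntegral ℤ x.eval.range := Algebra.IsIntegral.of_finite ℤ _
  have hinj : Function.Injective (algebraMap ℤ x.eval.range) := by
    intro a b hab
    have h := congrArg (fun z => (x.basis hP hq hD).repr z)
      (show a • (1 : x.eval.range) = b • 1 by rwa [← Algebra.algebraMap_eq_smul_one, ← Algebra.algebraMap_eq_smul_one])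
    simp only [map_zsmul] at h
    obtain ⟨i, hi⟩ : ∃ i, (x.basis hP hq hD).repr 1 i ≠ 0 := by
      by_contra! hall
      exact one_ne_zero ((x.basis hP hq hD).repr.map_eq_zero_iff.1 (Finsupp.ext hall))
    have := DFunLike.congr_fun h i
    simpa [hi] using this
  haveI : FaithfulSMul ℤ x.eval.range := (faithfulSMul_iff_algebraMap_injective _ _).2 hinj
  rw [EGA41Lib.ringKrullDim_eq_of_integral hinj]
  exact IsPrincipalIdealRing.ringKrullDim_eq_one ℤ Int.not_isField

/-- An endomorphism `F_T` extends to an action of the image of `ℤ[F, V]`. -/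
theorem MinPt.exists_module_iff (x : MinPt q P D A) (hP : IsWeilPoly q P) (hq : q ≠ 0)
    (hD : P.natDegree = 2 * D) (T : Type) [AddCommGroup T] [Module.Finite ℤ T] [Module.Free ℤ T]
    (FT : T →ₗ[ℤ] T) :
    (∃ _ : Module x.eval.range T,
      ∀ t : T, (⟨x.eval (MvPolynomial.X 0), AlgHom.mem_range_self _ _⟩ : x.eval.range) • t = FT t) ↔
      (aeval FT P = 0 ∧ ∃ VT : T →ₗ[ℤ] T, FT ∘ₗ VT = q • LinearMap.id) := by
  constructor
  · rintro ⟨inst, hact⟩
    let f : x.eval.range := ⟨x.eval (MvPolynomial.X 0), AlgHom.mem_range_self _ _⟩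
    let v : x.eval.range := ⟨x.eval (MvPolynomial.X 1), AlgHom.mem_range_self _ _⟩
    let ρ : x.eval.range →ₐ[ℤ] Module.End ℤ T :=
      RingHom.toIntAlgHom (Module.toModuleEnd ℤ (S := x.eval.range) T)
    have hρ : ρ f = FT := LinearMap.ext hact
    refine ⟨?_, ρ v, ?_⟩
    · rw [← hρ, aeval_algHom_apply]
      have h0 : aeval f P = 0 := by
        apply Subtype.ext
        rw [← Subalgebra.coe_val, ← aeval_algHom_apply]
        simpa [f] using x.root
      rw [h0, map_zero]
    · have hfv : f * v = (q : x.eval.range) := by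
        apply Subtype.ext
        simp [f, v, x.mul_eq]
      rw [← hρ, ← Module.End.mul_eq_comp, ← map_mul, hfv, map_intCast]
      ext t; simp
  · rintro ⟨hroot, VT, hFV⟩
    have hdet : LinearMap.det FT ≠ 0 := by
      intro h0
      have h1 := congrArg LinearMap.det hFV
      rw [LinearMap.det_comp, h0, zero_mul, LinearMap.det_smul, LinearMap.det_id, mul_one] at h1
      exact pow_ne_zero _ hq h1.symm
    have hinj : Function.Injective FT := by
      rw [← LinearMap.ker_eq_bot]
      by_contra hne
      exact hdet (LinearMap.det_eq_zero_iff_ker_ne_bot.2 hne)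
    have hVF : VT ∘ₗ FT = q • LinearMap.id := by
      ext t
      apply hinj
      have := LinearMap.congr_fun hFV (FT t)
      simp only [LinearMap.comp_apply, LinearMap.smul_apply, LinearMap.id_apply] at this ⊢
      rw [this, map_zsmul]
    have hcomm : Commute FT VT := hFV.trans hVF.symm
    let S : Subalgebra ℤ (Module.End ℤ T) := Algebra.adjoin ℤ {FT, VT}
    have hS : ∀ a ∈ ({FT, VT} : Set (Module.End ℤ T)), ∀ b ∈ ({FT, VT} : Set (Module.End ℤ T)),
        a * b = b * a := by
      rintro a (rfl | rfl) b (rfl | rfl) <;> first | rfl | exact hcomm.eq | exact hcomm.symm.eq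
    letI : CommRing S := Algebra.adjoinCommRingOfComm ℤ hS
    let ψ : FV →+* S := (MvPolynomial.eval₂Hom (Int.castRingHom S)
      ![⟨FT, Algebra.subset_adjoin (by simp)⟩, ⟨VT, Algebra.subset_adjoin (by simp)⟩])
    let φ : FV →+* Module.End ℤ T := (S.val : S →+* Module.End ℤ T).comp ψ
    have hφ0 : φ (MvPolynomial.X 0) = FT := by simp [φ, ψ]
    have hφ1 : φ (MvPolynomial.X 1) = VT := by simp [φ, ψ]
    obtain ⟨h, hh⟩ := exists_isSymOf hP hq hD
    have hrel : φ (rel q) = 0 := by
      rw [rel, map_sub, map_mul, hφ0, hφ1, Module.End.mul_eq_comp, hFV, show MvPolynomial.C q = (q : FV) by simp,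
        map_intCast, sub_eq_zero]
      ext t; simp
    have hh0 : φ h = 0 := by
      obtain ⟨r, hr⟩ := Ideal.mem_span_singleton'.1 hh
      have h1 := congrArg φ hr
      rw [map_mul, hrel, mul_zero, map_sub, map_mul, map_pow, hφ0] at h1
      have h2 : φ (aeval (MvPolynomial.X 0) P) = 0 := by
        rw [show φ (aeval (MvPolynomial.X 0) P) = φ.toIntAlgHom (aeval (MvPolynomial.X 0) P) from rfl,
          ← aeval_algHom_apply]
        simpa [hφ0] using hroot
      rw [h2, sub_zero] at h1
      have hinjD : Function.Injective ⇑(FT ^ D) := by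
        rw [Module.End.coe_pow]; exact hinj.iterate D
      ext t
      apply hinjD
      have := LinearMap.congr_fun h1 t
      simpa using this.symm
    have hle : RingHom.ker x.eval.rangeRestrict.toRingHom ≤ RingHom.ker φ := by
      intro g hg
      have hg' : g ∈ symIdeal q h := by
        rw [← x.ker_eq hh hP hq hD, RingHom.mem_ker]
        exact congrArg Subtype.val hg
      have : symIdeal q h ≤ RingHom.ker φ := Ideal.span_le.2 (by
        rintro y (rfl | rfl)
        · exact hrel
        · exact hh0)
      exact this hg'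
    let θ : x.eval.range →+* Module.End ℤ T :=
      RingHom.liftOfSurjective x.eval.rangeRestrict.toRingHom (AlgHom.rangeRestrict_surjective _) ⟨φ, hle⟩
    have hθ : θ ⟨x.eval (MvPolynomial.X 0), AlgHom.mem_range_self _ _⟩ = FT := by
      rw [← hφ0]
      exact RingHom.liftOfRightInverse_comp_apply x.eval.rangeRestrict.toRingHom _
        (Function.rightInverse_surjInv (AlgHom.rangeRestrict_surjective _)) ⟨φ, hle⟩ (MvPolynomial.X 0)
    exact ⟨Module.compHom T θ, fun t => LinearMap.congr_fun hθ t⟩

end Groth.Agent.WeilNumLib
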