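import Groth.Agent.GorSocle.Basic
import Groth.Agent.EGA41Lib.IntDim
import Mathlib.RingTheory.KrullDimension.PID
import Mathlib.RingTheory.Localization.AtPrime.Basic
import Mathlib.RingTheory.Ideal.Height
import Mathlib.FieldTheory.Finite.Basic
import Mathlib.Algebra.Polynomial.Div

/-!
# A two-branch singularity of a one-dimensional order is not Gorenstein
-/

set_option autoImplicit false

universe u

open Polynomial

namespace Groth.Agent.WeilNumLib

/-- The truncated polynomial ring `F_p[X]/(X^(n+1))`. -/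
abbrev Trunc (p n : ℕ) : Type := (ZMod p)[X] ⧸ Ideal.span {(X : (ZMod p)[X]) ^ (n + 1)}

/-- The residue map of `Trunc p n`. -/
noncomputable def truncRes (p n : ℕ) : Trunc p n →+* ZMod p :=
  Ideal.Quotient.lift _ (evalRingHom 0) fun f hf => by
    obtain ⟨g, rfl⟩ := Ideal.mem_span_singleton'.1 hf
    simp

theorem truncRes_mk (p n : ℕ) (f : (ZMod p)[X]) :
    truncRes p n (Ideal.Quotient.mk _ f) = f.eval 0 := rfl

theorem isUnit_trunc {p n : ℕ} [Fact p.Prime] {t : Trunc p n} (h : truncRes p n t ≠ 0) : IsUnit t := by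
  obtain ⟨f, rfl⟩ := Ideal.Quotient.mk_surjective t
  rw [truncRes_mk] at h
  rw [← X_mul_divX_add f, coeff_zero_eq_eval_zero, map_add]
  refine IsNilpotent.isUnit_add_right_of_commute ⟨n + 1, ?_⟩
    (IsUnit.map _ (isUnit_C.2 (isUnit_iff_ne_zero.2 h))) (Commute.all _ _)
  rw [← map_pow, Ideal.Quotient.eq_zero_iff_mem, mul_pow]
  exact Ideal.mul_mem_right _ _ (Ideal.mem_span_singleton_self _)

theorem X_pow_ne_zero_trunc (p n : ℕ) [Fact p.Prime] :
    Ideal.Quotient.mk (Ideal.span {(X : (ZMod p)[X]) ^ (n + 1)}) (X ^ n) ≠ 0 := by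
  intro h
  rw [Ideal.Quotient.eq_zero_iff_mem, Ideal.mem_span_singleton, X_pow_dvd_iff] at h
  simpa using h n (by omega)

variable {p : ℕ} [Fact p.Prime]

/-- If the residue of `a` times `X^n` vanishes in `Trunc p n` then `a` is a nonunit. -/
theorem truncRes_eq_zero_of_mul {n : ℕ} {t : Trunc p n}
    (h : t * Ideal.Quotient.mk _ (X ^ n) = 0) : truncRes p n t = 0 := by
  by_contra hne
  exact X_pow_ne_zero_trunc p n ((isUnit_trunc hne).mul_right_eq_zero.1 h)

/-- A local ring of a finite `ℤ`-order at a crossing of two branches is not Gorenstein. -/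
theorem not_isGorensteinRing {R : Type u} [CommRing R] [Algebra.IsIntegral ℤ R]
    (hp : IsSMulRegular R (p : R)) (θ : R →+* ZMod p) (F V : R)
    (hker : RingHom.ker θ ≤ Ideal.span {(p : R), F, V}) (hFV : F * V ∈ Ideal.span {(p : R)})
    {a b : ℕ} (ha : 1 ≤ a) (hb : 1 ≤ b)
    (u v : R) (hu : θ u ≠ 0) (hv : θ v ≠ 0)
    (hFa : F ^ (a + 1) * u ∈ Ideal.span {(p : R)}) (hVb : V ^ (b + 1) * v ∈ Ideal.span {(p : R)})
    (τ₁ : R →+* Trunc p a) (hτ₁ : (truncRes p a).comp τ₁ = θ)
    (hF₁ : τ₁ F = Ideal.Quotient.mk _ X) (hV₁ : τ₁ V = 0)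
    (τ₂ : R →+* Trunc p b) (hτ₂ : (truncRes p b).comp τ₂ = θ)
    (hF₂ : τ₂ F = 0) (hV₂ : τ₂ V = Ideal.Quotient.mk _ X) :
    ¬ LocCoh.IsGorensteinRing R := by
  intro hG
  haveI : (RingHom.ker θ).IsPrime := RingHom.ker_isPrime θ
  let m := RingHom.ker θ
  let L := Localization.AtPrime m
  haveI : LocCoh.IsGorensteinLocalRing L := LocCoh.IsGorensteinRing.isGorensteinLocalRing_localization m
  let ι := algebraMap R L
  have hpm : (p : R) ∈ m := by
    show θ p = 0
    rw [map_natCast, ZMod.natCast_self]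
  have hxmem : ι (p : R) ∈ IsLocalRing.maximalIdeal L :=
    (IsLocalization.AtPrime.to_map_mem_maximal_iff L m _).2 hpm
  have hxreg : IsSMulRegular L (ι (p : R)) := by
    intro z w hzw
    simp only [smul_eq_mul] at hzw
    obtain ⟨z₀, c, rfl⟩ := IsLocalization.exists_mk'_eq m.primeCompl z
    obtain ⟨w₀, d, rfl⟩ := IsLocalization.exists_mk'_eq m.primeCompl w
    rw [IsLocalization.mul_mk'_eq_mk'_of_mul, IsLocalization.mul_mk'_eq_mk'_of_mul,
      IsLocalization.mk'_eq_iff_eq, IsLocalization.eq_iff_exists m.primeCompl] at hzw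
    obtain ⟨e, he⟩ := hzw
    rw [IsLocalization.mk'_eq_iff_eq, IsLocalization.eq_iff_exists m.primeCompl]
    refine ⟨e, hp ?_⟩
    simp only [smul_eq_mul]
    linear_combination he
  have hdim : ringKrullDim L = 1 := by
    refine le_antisymm ?_ ?_
    · rw [IsLocalization.AtPrime.ringKrullDim_eq_height m L]
      refine le_trans (Ideal.height_le_ringKrullDim_of_ne_top (Ideal.IsPrime.ne_top ‹_›)) ?_
      refine le_trans (EGA41Lib.ringKrullDim_le_of_integral (A := ℤ)) ?_
      exact le_of_eq (IsPrincipalIdealRing.ringKrullDim_eq_one ℤ Int.not_isField)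
    · rw [← ringKrullDim_quotient_span_singleton_succ_eq_ringKrullDim hxreg hxmem]
      haveI : Nontrivial (L ⧸ Ideal.span {ι (p : R)}) := Ideal.Quotient.nontrivial_iff.2 (by
        rw [Ne, Ideal.span_singleton_eq_top]; exact hxmem)
      exact le_add_of_nonneg_left ringKrullDim_nonneg_of_nontrivial
  have hmax : IsLocalRing.maximalIdeal L = (Ideal.span {(p : R), F, V}).map ι := by
    rw [← IsLocalization.AtPrime.map_eq_maximalIdeal m L]
    refine le_antisymm (Ideal.map_mono hker) (Ideal.map_mono (Ideal.span_le.2 ?_))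
    rintro z hz
    rcases hz with h | h | h
    · rw [h]; exact hpm
    · rw [h]
      show θ F = 0
      rw [← hτ₁, RingHom.comp_apply, hF₁, truncRes_mk, eval_X]
    · rw [Set.mem_singleton_iff.1 h]
      show θ V = 0
      rw [← hτ₁, RingHom.comp_apply, hV₁, map_zero]
  let P : Ideal L := Ideal.span {ι (p : R)}
  have hP : ∀ z ∈ Ideal.span {(p : R)}, ι z ∈ P := fun z hz => by
    have := Ideal.mem_map_of_mem ι hz
    rwa [Ideal.map_span, Set.image_singleton] at this
  have hsoc : ∀ (z w : R) (n : ℕ) (c : R), θ c ≠ 0 → z ^ (n + 1) * c ∈ Ideal.span {(p : R)} →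
      z * w ∈ Ideal.span {(p : R)} → Ideal.span {(p : R), F, V} = Ideal.span {(p : R), z, w} → 1 ≤ n →
      ∀ r ∈ IsLocalRing.maximalIdeal L, r * ι (z ^ n) ∈ P := by
    intro z w n c hc hzc hzw hspan hn r hr
    rw [hmax, hspan, Ideal.map_span] at hr
    have hle : Ideal.span (ι '' {(p : R), z, w}) ≤ P.colon ({ι (z ^ n)} : Set L) := by
      rw [Ideal.span_le]
      rintro - ⟨y, hy, rfl⟩
      rw [SetLike.mem_coe, Submodule.mem_colon_singleton, smul_eq_mul, ← map_mul]
      rcases hy with rfl | rfl | rfl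
      · exact hP _ (Ideal.mul_mem_right _ _ (Ideal.mem_span_singleton_self _))
      · have hcu : IsUnit (ι c) := IsLocalization.map_units L (⟨c, hc⟩ : m.primeCompl)
        have := hP _ hzc
        rw [map_mul] at this
        rw [← pow_succ']
        exact (Ideal.mul_unit_mem_iff_mem _ hcu).1 this
      · obtain ⟨k, rfl⟩ : ∃ k, n = k + 1 := ⟨n - 1, by omega⟩
        refine hP _ ?_
        rw [pow_succ, mul_comm (z ^ k) z, ← mul_assoc, mul_comm y z]
        exact Ideal.mul_mem_right _ _ hzw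
    simpa [Submodule.mem_colon_singleton, smul_eq_mul] using hle hr
  have hlift : ∀ (n : ℕ) (τ : R →+* Trunc p n), (truncRes p n).comp τ = θ →
      ∀ y : m.primeCompl, IsUnit (τ y) := fun n τ hτ y => isUnit_trunc (by
    rw [← RingHom.comp_apply, hτ]; exact y.2)
  let T₁ : L →+* Trunc p a := IsLocalization.lift (hlift a τ₁ hτ₁)
  let T₂ : L →+* Trunc p b := IsLocalization.lift (hlift b τ₂ hτ₂)
  have hT₁P : ∀ z ∈ P, T₁ z = 0 := fun z hz => by
    obtain ⟨r, rfl⟩ := Ideal.mem_span_singleton'.1 hz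
    rw [map_mul, show T₁ (ι (p : R)) = τ₁ p from IsLocalization.lift_eq _ _, map_natCast,
      show ((p : Trunc p a)) = algebraMap (ZMod p) _ (p : ZMod p) from (map_natCast _ _).symm,
      ZMod.natCast_self, map_zero, mul_zero]
  have hT₂P : ∀ z ∈ P, T₂ z = 0 := fun z hz => by
    obtain ⟨r, rfl⟩ := Ideal.mem_span_singleton'.1 hz
    rw [map_mul, show T₂ (ι (p : R)) = τ₂ p from IsLocalization.lift_eq _ _, map_natCast,
      show ((p : Trunc p b)) = algebraMap (ZMod p) _ (p : ZMod p) from (map_natCast _ _).symm,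
      ZMod.natCast_self, map_zero, mul_zero]
  have hA1 : T₁ (ι (F ^ a)) = Ideal.Quotient.mk _ (X ^ a) := by
    rw [show T₁ (ι (F ^ a)) = τ₁ (F ^ a) from IsLocalization.lift_eq _ _, map_pow, hF₁, map_pow]
  have hB1 : T₁ (ι (V ^ b)) = 0 := by
    rw [show T₁ (ι (V ^ b)) = τ₁ (V ^ b) from IsLocalization.lift_eq _ _, map_pow, hV₁,
      zero_pow (by omega)]
  have hA2 : T₂ (ι (F ^ a)) = 0 := by
    rw [show T₂ (ι (F ^ a)) = τ₂ (F ^ a) from IsLocalization.lift_eq _ _, map_pow, hF₂,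
      zero_pow (by omega)]
  have hB2 : T₂ (ι (V ^ b)) = Ideal.Quotient.mk _ (X ^ b) := by
    rw [show T₂ (ι (V ^ b)) = τ₂ (V ^ b) from IsLocalization.lift_eq _ _, map_pow, hV₂, map_pow]
  obtain ⟨r, hr⟩ := GorSocle.socle_dependent hdim hxmem hxreg (ι (F ^ a)) (ι (V ^ b))
    (hsoc F V a u hu hFa hFV rfl ha)
    (hsoc V F b v hv hVb (by rw [mul_comm]; exact hFV) (by rw [Set.pair_comm F V]) hb)
    (fun h => X_pow_ne_zero_trunc p a (hA1 ▸ hT₁P _ h))
  have h1 := hT₁P _ hr
  have h2 := hT₂P _ hr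
  rw [map_sub, map_mul, hA1, hB1, zero_sub, neg_eq_zero] at h1
  rw [map_sub, map_mul, hA2, hB2, mul_zero, sub_zero] at h2
  exact X_pow_ne_zero_trunc p b h2

end Groth.Agent.WeilNumLib
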