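import Groth.Agent.WeilNumLib.Enlarged
import Groth.Agent.WeilNumLib.Gor
import Groth.Agent.WeilNumLib.NotGor
import Mathlib.RingTheory.Localization.Ideal

/-!
# When is the enlarged minimal order Gorenstein?
-/

set_option autoImplicit false

universe u

open Polynomial

namespace Groth.Agent.WeilNumLib

/-- Two elements, the first generating a prime ideal not containing the second, have only trivial
relations. -/
theorem rel_pair {R : Type*} [CommRing R] [IsDomain R] {a b : R} (ha : a ≠ 0)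
    (hpr : (Ideal.span {a}).IsPrime) (hb : b ∉ Ideal.span {a}) {c₀ c₁ : R}
    (h : c₀ * a + c₁ * b = 0) : ∃ t, c₀ = -t * b ∧ c₁ = t * a := by
  have hmem : c₁ * b ∈ Ideal.span {a} := by
    rw [eq_neg_of_add_eq_zero_right h]
    exact neg_mem (Ideal.mul_mem_left _ _ (Ideal.mem_span_singleton_self _))
  obtain ⟨t, ht⟩ := Ideal.mem_span_singleton'.1 ((hpr.mem_or_mem hmem).resolve_right hb)
  refine ⟨t, mul_right_cancel₀ ha ?_, ht.symm⟩
  rw [← ht] at h
  linear_combination h

theorem trivR_pair {a b : FV} (hrel : ∀ c₀ c₁ : FV, c₀ * a + c₁ * b = 0 → ∃ t, c₀ = -t * b ∧ c₁ = t * a)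
    (c : Fin 2 → FVu.{u}) (hc : DefGlueLib.dot ![evu.symm a, evu.symm b] c = 0) :
    c ∈ DefGlueLib.trivR ![evu.symm a, evu.symm b] := by
  have hc' : evu (c 0) * a + evu (c 1) * b = 0 := by
    have := congrArg evu hc
    simpa [DefGlueLib.dot_apply, Fin.sum_univ_two] using this
  obtain ⟨t, h0, h1⟩ := hrel _ _ hc'
  have h0' : c 0 = -evu.symm t * evu.symm b := evu.injective (by simp [h0])
  have h1' : c 1 = evu.symm t * evu.symm a := evu.injective (by simp [h1])
  have : c = evu.symm t • (![evu.symm a, evu.symm b] 0 • Pi.single (1 : Fin 2) (1 : FVu.{u}) -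
      ![evu.symm a, evu.symm b] 1 • Pi.single (0 : Fin 2) (1 : FVu.{u})) := by
    funext i
    fin_cases i <;> simp [h0', h1'] <;> ring
  rw [this]
  exact Submodule.smul_mem _ _ (Submodule.subset_span ⟨(1, 0), rfl⟩)

theorem isPrime_span_X_sub (s : ℤ) :
    (Ideal.span {(MvPolynomial.X 0 - MvPolynomial.C s : FV)}).IsPrime ∧
      (MvPolynomial.X 1 - MvPolynomial.C s : FV) ∉ Ideal.span {MvPolynomial.X 0 - MvPolynomial.C s} := by
  let ev : FV →ₐ[ℤ] ℤ[X] := MvPolynomial.aeval ![C s, X]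
  have hker : RingHom.ker ev = Ideal.span {MvPolynomial.X 0 - MvPolynomial.C s} := by
    refine le_antisymm (fun g hg => ?_) ?_
    · have key : ∀ g : FV, g - Polynomial.aeval (MvPolynomial.X 1 : FV) (ev g) ∈
          Ideal.span {(MvPolynomial.X 0 - MvPolynomial.C s : FV)} := by
        intro g
        induction g using MvPolynomial.induction_on with
        | C a => simp [ev]
        | add a b ha hb =>
          convert add_mem ha hb using 1
          rw [map_add, map_add]; ring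
        | mul_X a i ha =>
          obtain rfl | rfl : i = 0 ∨ i = 1 := by fin_cases i <;> simp
          · have := add_mem (Ideal.mul_mem_right (MvPolynomial.X 0) _ ha)
              (Ideal.mul_mem_left (α := FV) _ (Polynomial.aeval (MvPolynomial.X 1) (ev a))
                (Ideal.mem_span_singleton_self (MvPolynomial.X 0 - MvPolynomial.C s : FV)))
            convert this using 1
            simp [ev, map_intCast]
            ring
          · convert Ideal.mul_mem_right (MvPolynomial.X 1) _ ha using 1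
            simp [ev]
            ring
      have := key g
      rwa [RingHom.mem_ker.1 hg, map_zero, sub_zero] at this
    · rw [Ideal.span_le]
      rintro _ rfl
      simp [ev]
  refine ⟨hker ▸ RingHom.ker_isPrime _, fun h => ?_⟩
  rw [← hker, RingHom.mem_ker] at h
  simp [ev] at h
  exact X_sub_C_ne_zero s (by simpa using h)

theorem IsSymOf.mul_not_mem {q : ℤ} {P : ℤ[X]} {D : ℕ} {h : FV} (hh : IsSymOf q P D h) (hP : P ≠ 0)
    (hq : q ≠ 0) (i : Fin 2) {s : ℤ} (hs : s ^ 2 = q) :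
    h * (MvPolynomial.X i - MvPolynomial.C s) ∉ relIdeal q := by
  intro hm
  rcases (isPrime_relIdeal hq).mem_or_mem hm with h1 | h1
  · exact hh.not_mem hP hq h1
  · have h2 : ∀ g ∈ relIdeal q, MvPolynomial.aeval ![-s, -s] g = (0 : ℤ) := by
      intro g hg
      obtain ⟨r, rfl⟩ := Ideal.mem_span_singleton'.1 hg
      simp [rel, ← hs, sq]
    have h3 := h2 _ h1
    have hs0 : s ≠ 0 := fun h0 => hq (by rw [← hs, h0]; ring)
    fin_cases i <;> simp at h3 <;> omega

theorem MinPt.gorensteinRing_enlarged {p : ℕ} [Fact p.Prime] {e : ℕ} (he : 0 < e) {P : ℤ[X]} {D : ℕ}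
    {A : Type u} [CommRing A] (x : MinPt ((p : ℤ) ^ e) P D A) {h : FV}
    (hh : IsSymOf ((p : ℤ) ^ e) P D h) (hP : IsWeilPoly ((p : ℤ) ^ e) P)
    (hD : P.natDegree = 2 * D) {s : ℤ} (hs : s ^ 2 = (p : ℤ) ^ e) (hPs : P.eval s ≠ 0)
    (hmid : ¬ (p : ℤ) ∣ P.coeff D) :
    LocCoh.IsGorensteinRing (x.eval₁ s).range := by
  have hq : ((p : ℤ) ^ e) ≠ 0 := pow_ne_zero _ (by exact_mod_cast (Fact.out : p.Prime).ne_zero)
  have hpp : Prime (p : ℤ) := Nat.prime_iff_prime_int.1 Fact.out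
  haveI := gorensteinRing_FVu.{u}
  let π : FVu.{u} →+* (x.eval₁ s).range := (x.eval₁ s).rangeRestrict.toRingHom.comp evu.toRingHom
  have hπ : Function.Surjective π :=
    (AlgHom.rangeRestrict_surjective _).comp evu.surjective
  haveI : IsNoetherianRing (x.eval₁ s).range := isNoetherianRing_of_surjective _ _ π hπ
  refine LC.gorensteinRing_of_atPrime fun pr _ => ?_
  let Q := pr.comap π
  let L := Localization.AtPrime Q
  let ι : FV →+* L := (algebraMap FVu.{u} L).comp evu.symm.toRingHom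
  have hker : RingHom.ker π = (enlIdeal ((p : ℤ) ^ e) s h).map evu.symm.toRingHom := by
    ext z
    have hm : (enlIdeal ((p : ℤ) ^ e) s h).map evu.symm.toRingHom =
        (enlIdeal ((p : ℤ) ^ e) s h).comap evu.toRingHom := Ideal.map_symm evu
    rw [hm, Ideal.mem_comap, ← x.ker_eval₁ hh hP hq hD hs hPs, RingHom.mem_ker, RingHom.mem_ker]
    exact Subtype.ext_iff
  have hkerL : (RingHom.ker π).map (algebraMap FVu.{u} L) =
      Ideal.span {ι (rel ((p : ℤ) ^ e)), ι (h * (MvPolynomial.X 0 - MvPolynomial.C s)),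
        ι (h * (MvPolynomial.X 1 - MvPolynomial.C s))} := by
    rw [hker, Ideal.map_map, enlIdeal, Ideal.map_span, Set.image_insert_eq, Set.image_insert_eq,
      Set.image_singleton]
  have main : ∀ a b : FV, a ≠ 0 → (Ideal.span {a}).IsPrime → b ∉ Ideal.span {a} →
      Ideal.span {ι a, ι b} = (RingHom.ker π).map (algebraMap FVu.{u} L) →
      LocCoh.IsGorensteinLocalRing (Localization.AtPrime pr) := by
    intro a b ha hpa hb hsp
    refine LC.gorenstein_atPrime_of_rel π hπ pr Q.primeCompl (fun z hz => hz) L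
      (fun i => algebraMap FVu.{u} L (![evu.symm a, evu.symm b] i))
      (fun c hc => LC.rel_localize Q.primeCompl _
        (trivR_pair fun c₀ c₁ => rel_pair ha hpa hb) c hc) ?_
    rw [← hsp]
    congr 1
    rw [show (fun i => algebraMap FVu.{u} L (![evu.symm a, evu.symm b] i)) = ![ι a, ι b] from by
      funext i; fin_cases i <;> rfl, Matrix.range_cons, Matrix.range_cons, Matrix.range_empty,
      Set.union_empty, Set.singleton_union]
  have hunit : ∀ g : FV, evu.symm g ∉ Q → IsUnit (ι g) := fun g hg =>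
    IsLocalization.map_units L (⟨evu.symm g, hg⟩ : Q.primeCompl)
  have hmul : ∀ (u a : FV) (J : Ideal L), IsUnit (ι u) → ι (u * a) ∈ J → ι a ∈ J := fun u a J hu hJ => by
    rw [map_mul] at hJ
    exact (Ideal.unit_mul_mem_iff_mem J hu).1 hJ
  by_cases hF : evu.symm (MvPolynomial.X 0) ∈ Q
  swap
  · refine main _ _ (rel_ne_zero _) (isPrime_relIdeal hq) (hh.mul_not_mem hP.monic.ne_zero hq 0 hs) ?_
    rw [hkerL]
    refine le_antisymm (Ideal.span_mono (by simp [Set.insert_subset_iff])) (Ideal.span_le.2 ?_)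
    rintro z hz
    rcases hz with h1 | h1 | h1
    · exact h1 ▸ Ideal.subset_span (by simp)
    · exact h1 ▸ Ideal.subset_span (by simp)
    · rw [Set.mem_singleton_iff.1 h1, SetLike.mem_coe]
      refine hmul _ _ _ (hunit _ hF) ?_
      rw [show MvPolynomial.X 0 * (h * (MvPolynomial.X 1 - MvPolynomial.C s)) =
        h * rel ((p : ℤ) ^ e) + MvPolynomial.C (-s) * (h * (MvPolynomial.X 0 - MvPolynomial.C s)) by
          rw [rel, ← hs, map_pow, map_neg]; ring, map_add ι (h * _) _, map_mul ι (MvPolynomial.C (-s)), map_mul ι h (rel _)]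
      refine add_mem (Ideal.mul_mem_left _ _ ?_) (Ideal.mul_mem_left _ _ ?_) <;>
        exact Ideal.subset_span (by simp)
  by_cases hV : evu.symm (MvPolynomial.X 1) ∈ Q
  swap
  · refine main _ _ (rel_ne_zero _) (isPrime_relIdeal hq) (hh.mul_not_mem hP.monic.ne_zero hq 1 hs) ?_
    rw [hkerL]
    refine le_antisymm (Ideal.span_mono (by simp [Set.insert_subset_iff])) (Ideal.span_le.2 ?_)
    rintro z hz
    rcases hz with h1 | h1 | h1
    · exact h1 ▸ Ideal.subset_span (by simp)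
    · rw [h1, SetLike.mem_coe]
      refine hmul _ _ _ (hunit _ hV) ?_
      rw [show MvPolynomial.X 1 * (h * (MvPolynomial.X 0 - MvPolynomial.C s)) =
        h * rel ((p : ℤ) ^ e) + MvPolynomial.C (-s) * (h * (MvPolynomial.X 1 - MvPolynomial.C s)) by
          rw [rel, ← hs, map_pow, map_neg]; ring, map_add ι (h * _) _, map_mul ι (MvPolynomial.C (-s)), map_mul ι h (rel _)]
      refine add_mem (Ideal.mul_mem_left _ _ ?_) (Ideal.mul_mem_left _ _ ?_) <;>
        exact Ideal.subset_span (by simp)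
    · exact h1 ▸ Ideal.subset_span (by simp)
  -- the crossing point
  let Q₀ : Ideal FV := Q.comap evu.symm.toRingHom
  haveI : Q₀.IsPrime := Ideal.IsPrime.comap _
  have hI : enlIdeal ((p : ℤ) ^ e) s h ≤ Q₀ := fun g hg => by
    show evu.symm g ∈ Q
    exact Ideal.ker_le_comap π (hker ▸ Ideal.mem_map_of_mem _ hg)
  have hqQ : MvPolynomial.C ((p : ℤ) ^ e) ∈ Q₀ := by
    have : MvPolynomial.X 0 * MvPolynomial.X 1 - rel ((p : ℤ) ^ e) ∈ Q₀ :=
      sub_mem (Ideal.mul_mem_right _ _ hF) (hI (Ideal.subset_span (by simp)))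
    simpa [rel] using this
  have hpQ : MvPolynomial.C (p : ℤ) ∈ Q₀ := by
    rw [map_pow] at hqQ
    exact Ideal.IsPrime.mem_of_pow_mem inferInstance e hqQ
  have hsQ : MvPolynomial.C s ∈ Q₀ := by
    rw [← hs, map_pow] at hqQ
    exact Ideal.IsPrime.mem_of_pow_mem inferInstance 2 hqQ
  have hps : (p : ℤ) ∣ s := hpp.dvd_of_dvd_pow (hs ▸ dvd_pow_self _ he.ne')
  have hhQ : h ∉ Q₀ := by
    intro hhQ
    have h1 : MvPolynomial.C (evS s h) ∈ Q₀ := by
      have hle : Ideal.span ({MvPolynomial.X 0 - MvPolynomial.C s,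
          MvPolynomial.X 1 - MvPolynomial.C s} : Set FV) ≤ Q₀ := Ideal.span_le.2 (by
        rintro y hy
        rcases hy with h2 | h2
        · exact h2 ▸ sub_mem hF hsQ
        · exact (Set.mem_singleton_iff.1 h2) ▸ sub_mem hV hsQ)
      simpa using sub_mem hhQ (hle (mem_span_point s h))
    have h2 : ¬ (p : ℤ) ∣ evS s h := fun h2 =>
      hmid (by have := dvd_sub h2 (hps.trans (hh.evS_modEq hP hq hD hs)); simpa using this)
    obtain ⟨a, b, hab⟩ := (hpp.coprime_iff_not_dvd).2 h2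
    refine Ideal.IsPrime.ne_top (I := Q₀) inferInstance ((Ideal.eq_top_iff_one _).2 ?_)
    have := add_mem (Ideal.mul_mem_left _ (MvPolynomial.C a) hpQ)
      (Ideal.mul_mem_left _ (MvPolynomial.C b) h1)
    rwa [← MvPolynomial.C_mul, ← MvPolynomial.C_mul, ← MvPolynomial.C_add, hab, MvPolynomial.C_1] at this
  obtain ⟨hpr, hnot⟩ := isPrime_span_X_sub s
  refine main _ _ ?_ hpr hnot ?_
  · intro h0
    have := congrArg (MvPolynomial.eval ![s + 1, 0]) h0
    simp at this
  rw [hkerL]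
  have hu := hunit h hhQ
  refine le_antisymm (Ideal.span_le.2 ?_) (Ideal.span_le.2 ?_)
  · rintro z hz
    rcases hz with h1 | h1
    · rw [h1, SetLike.mem_coe]
      exact hmul _ _ _ hu (Ideal.subset_span (by simp))
    · rw [Set.mem_singleton_iff.1 h1, SetLike.mem_coe]
      exact hmul _ _ _ hu (Ideal.subset_span (by simp))
  · rintro z hz
    rcases hz with h1 | h1 | h1
    · rw [h1, SetLike.mem_coe, show rel ((p : ℤ) ^ e) =
        (MvPolynomial.X 1 - MvPolynomial.C s + MvPolynomial.C s) * (MvPolynomial.X 0 - MvPolynomial.C s) +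
          MvPolynomial.C s * (MvPolynomial.X 1 - MvPolynomial.C s) by
          rw [rel, ← hs, map_pow]; ring, map_add, map_mul, map_mul]
      exact add_mem (Ideal.mul_mem_left _ _ (Ideal.subset_span (by simp)))
        (Ideal.mul_mem_left _ _ (Ideal.subset_span (by simp)))
    · rw [h1, SetLike.mem_coe, map_mul]
      exact Ideal.mul_mem_left _ _ (Ideal.subset_span (by simp))
    · rw [Set.mem_singleton_iff.1 h1, SetLike.mem_coe, map_mul]
      exact Ideal.mul_mem_left _ _ (Ideal.subset_span (by simp))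

theorem factor_mod_p {p : ℕ} [Fact p.Prime] (f : ℤ[X])
    (h : f.map (Int.castRingHom (ZMod p)) ≠ 0) :
    ∃ g r : ℤ[X],
      f = X ^ (f.map (Int.castRingHom (ZMod p))).natTrailingDegree * g + C (p : ℤ) * r ∧
        ((g.coeff 0 : ℤ) : ZMod p) ≠ 0 := by
  set φ := Int.castRingHom (ZMod p) with hφ
  set t := (f.map φ).natTrailingDegree with ht
  obtain ⟨gb, hgb⟩ : X ^ t ∣ f.map φ :=
    X_pow_dvd_iff.2 fun d hd => coeff_eq_zero_of_lt_natTrailingDegree hd
  obtain ⟨g, rfl⟩ := Polynomial.map_surjective φ (ZMod.ringHom_surjective φ) gb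
  have hdvd : C (p : ℤ) ∣ f - X ^ t * g := by
    rw [C_dvd_iff_dvd_coeff]
    intro i
    have := congrArg (fun z => z.coeff i) hgb
    rw [← ZMod.intCast_zmod_eq_zero_iff_dvd, ← eq_intCast φ, ← coeff_map, Polynomial.map_sub,
      Polynomial.map_mul, Polynomial.map_pow, map_X, hgb, sub_self, coeff_zero]
  obtain ⟨r, hr⟩ := hdvd
  refine ⟨g, r, by linear_combination hr, ?_⟩
  have h1 := coeff_natTrailingDegree_ne_zero.2 h
  rw [← ht, hgb] at h1
  have h2 := coeff_X_pow_mul (g.map φ) t 0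
  rw [zero_add] at h2
  rwa [h2, coeff_map, eq_intCast] at h1

theorem map_sym_eq {q : ℤ} {u w : ℤ[X]} {s : ℤ} {h : FV} {T : Type*} [CommRing T] {ρ : FV →+* T}
    (huw : h - normalForm u w ∈ relIdeal q) (hker : ∀ g ∈ enlIdeal q s h, ρ g = 0) :
    ρ h = ρ (normalForm u w) := by
  obtain ⟨r, hr⟩ := Ideal.mem_span_singleton'.1 huw
  have := congrArg ρ hr
  rw [map_mul, hker (rel q) (Ideal.subset_span (by simp)), mul_zero, map_sub] at this
  exact sub_eq_zero.1 this.symm

theorem MinPt.not_gorensteinRing_enlarged {p : ℕ} [Fact p.Prime] {e : ℕ} (he : 0 < e) {P : ℤ[X]} {D : ℕ}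
    (hD0 : 0 < D) {A : Type u} [CommRing A] (x : MinPt ((p : ℤ) ^ e) P D A) (hpA : IsUnit (p : A)) {h : FV}
    (hh : IsSymOf ((p : ℤ) ^ e) P D h) (hP : IsWeilPoly ((p : ℤ) ^ e) P)
    (hD : P.natDegree = 2 * D) {s : ℤ} (hs : s ^ 2 = (p : ℤ) ^ e) (hPs : P.eval s ≠ 0)
    (hmid : (p : ℤ) ∣ P.coeff D) :
    ¬ LocCoh.IsGorensteinRing (x.eval₁ s).range := by
  have hq : ((p : ℤ) ^ e) ≠ 0 := pow_ne_zero _ (by exact_mod_cast (Fact.out : p.Prime).ne_zero)
  have hpp : Prime (p : ℤ) := Nat.prime_iff_prime_int.1 Fact.out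
  have hqp : ((((p : ℤ) ^ e : ℤ)) : ZMod p) = 0 := by simp [zero_pow he.ne']
  have hsp : (s : ZMod p) = 0 := (ZMod.intCast_zmod_eq_zero_iff_dvd _ _).2
    (hpp.dvd_of_dvd_pow (hs ▸ dvd_pow_self _ he.ne'))
  obtain ⟨u, w, huw, huD, -, hwhi, hwD, hu⟩ := hh.normal hP hq hD
  set φ := Int.castRingHom (ZMod p) with hφ
  have hub0 : (u.coeff 0 : ZMod p) = 0 := by
    rw [hu 0, add_zero]; exact (ZMod.intCast_zmod_eq_zero_iff_dvd _ _).2 hmid
  have hub : u.map φ ≠ 0 := fun h0 => by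
    have := congrArg (fun f => f.coeff D) h0
    simp [huD] at this
  have hvb : (X * w).map φ ≠ 0 := fun h0 => by
    have := congrArg (fun f => f.coeff D) h0
    obtain ⟨d, rfl⟩ : ∃ d, D = d + 1 := ⟨D - 1, by omega⟩
    rw [coeff_map, coeff_X_mul, coeff_zero, eq_intCast, ZMod.intCast_zmod_eq_zero_iff_dvd] at this
    have h1 := dvd_mul_of_dvd_left this (w.coeff d)
    rw [show w.coeff d * w.coeff d = 1 by simpa using hwD (by omega)] at h1
    exact hpp.not_dvd_one h1
  set a := (u.map φ).natTrailingDegree with ha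
  set b := ((X * w).map φ).natTrailingDegree with hb
  have ha1 : 1 ≤ a := le_natTrailingDegree hub fun m hm => by
    rw [Nat.lt_one_iff.1 hm, coeff_map, eq_intCast, hub0]
  have hb1 : 1 ≤ b := le_natTrailingDegree hvb fun m hm => by
    rw [Nat.lt_one_iff.1 hm, coeff_map, coeff_X_mul_zero, map_zero]
  obtain ⟨gu, ru, hgu, hgu0⟩ := factor_mod_p u hub
  obtain ⟨gv, rv, hgv, hgv0⟩ := factor_mod_p (X * w) hvb
  rw [← ha] at hgu
  rw [← hb] at hgv
  -- maps killing the ideal
  have hkill : ∀ {T : Type} [CommRing T] (τ : FV →+* T), τ (MvPolynomial.C (p : ℤ)) = 0 →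
      τ (MvPolynomial.X 0) * τ (MvPolynomial.X 1) = 0 → τ h * τ (MvPolynomial.X 0) = 0 →
      τ h * τ (MvPolynomial.X 1) = 0 → RingHom.ker (x.eval₁ s).rangeRestrict.toRingHom ≤ RingHom.ker τ := by
    intro T _ τ hp0 h01 hh0 hh1 g hg
    have hg' : g ∈ enlIdeal ((p : ℤ) ^ e) s h := by
      rw [← x.ker_eval₁ hh hP hq hD hs hPs, RingHom.mem_ker]
      exact congrArg Subtype.val hg
    have hC : ∀ c : ℤ, (c : ZMod p) = 0 → τ (MvPolynomial.C c) = 0 := fun c hc => by
      obtain ⟨d, rfl⟩ := (ZMod.intCast_zmod_eq_zero_iff_dvd _ _).1 hc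
      rw [MvPolynomial.C_mul, map_mul, hp0, zero_mul]
    refine (Ideal.span_le (I := RingHom.ker τ)).2 ?_ hg'
    intro y hy
    rw [SetLike.mem_coe, RingHom.mem_ker]
    rcases hy with h1 | h1 | h1
    · rw [h1, rel, map_sub, map_mul, h01, hC _ hqp, sub_zero]
    · rw [h1, map_mul, map_sub, hC _ hsp, sub_zero, hh0]
    · rw [Set.mem_singleton_iff.1 h1, map_mul, map_sub, hC _ hsp, sub_zero, hh1]
  have hτh : ∀ {T : Type} [CommRing T] (τ : FV →+* T), τ (rel ((p : ℤ) ^ e)) = 0 →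
      τ h = τ (normalForm u w) := by
    intro T _ τ hrel
    obtain ⟨r, hr⟩ := Ideal.mem_span_singleton'.1 huw
    have := congrArg τ hr
    rw [map_mul, hrel, mul_zero, map_sub] at this
    exact sub_eq_zero.1 this.symm
  have haev : ∀ {T : Type} [CommRing T] (τ : FV →+* T) (i : Fin 2) (f : ℤ[X]),
      τ (aeval (MvPolynomial.X i) f) = (f.map (Int.castRingHom T)).eval (τ (MvPolynomial.X i)) := by
    intro T _ τ i f
    rw [eval_map, aeval_def, hom_eval₂, RingHom.ext_int (τ.comp (algebraMap ℤ FV)) (Int.castRingHom T)]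
  let R := (x.eval₁ s).range
  haveI hint : @Algebra.IsIntegral ℤ (x.eval₁ s).range _ _ (Ring.toIntAlgebra _) := by
    convert x.isIntegral_eval₁ hP hq hD s
    exact Subsingleton.elim _ _
  let ρ : FV →+* R := (x.eval₁ s).rangeRestrict.toRingHom
  have hρ : Function.Surjective ρ := AlgHom.rangeRestrict_surjective _
  -- the residue map
  let θ₀ : FV →+* ZMod p := MvPolynomial.eval₂Hom φ ![0, 0]
  have hθh : θ₀ h = 0 := by
    rw [hτh θ₀ (by simp [θ₀, rel, φ, he.ne']), normalForm, map_add, map_mul, haev]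
    simp [θ₀, ← coeff_zero_eq_eval_zero, hub0]
  let θ : R →+* ZMod p := RingHom.liftOfSurjective ρ hρ
    ⟨θ₀, hkill θ₀ (by simp [θ₀, φ]) (by simp [θ₀]) (by simp [θ₀]) (by simp [θ₀])⟩
  have hθ : ∀ g, θ (ρ g) = θ₀ g := fun g => RingHom.liftOfRightInverse_comp_apply ρ _ _ _ _
  -- the two branches
  have branch : ∀ (i j : Fin 2), (i = 0 ∧ j = 1 ∨ i = 1 ∧ j = 0) → ∀ (f : ℤ[X]) (n : ℕ),
      n = (f.map φ).natTrailingDegree → (f.coeff 0 : ZMod p) = 0 →
      (∀ {T : Type} [CommRing T] (τ : FV →+* T), τ (MvPolynomial.X j) = 0 →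
        τ (rel ((p : ℤ) ^ e)) = 0 → τ (MvPolynomial.C (p : ℤ)) = 0 →
        τ h = τ (aeval (MvPolynomial.X i) f)) →
      ∃ τ : R →+* Trunc p n, (truncRes p n).comp τ = θ ∧
        τ (ρ (MvPolynomial.X i)) = Ideal.Quotient.mk _ X ∧ τ (ρ (MvPolynomial.X j)) = 0 := by
    intro i j hij f n hn hf0 hform
    let τ₀ : FV →+* Trunc p n := (Ideal.Quotient.mk _).comp
      (MvPolynomial.eval₂Hom (C.comp φ) (fun k => if k = i then (X : (ZMod p)[X]) else 0))
    have hji : j ≠ i := by rcases hij with ⟨rfl, rfl⟩ | ⟨rfl, rfl⟩ <;> simp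
    have hj0 : τ₀ (MvPolynomial.X j) = 0 := by simp [τ₀, hji]
    have hi1 : τ₀ (MvPolynomial.X i) = Ideal.Quotient.mk _ X := by simp [τ₀]
    have hpT : ((p : ℕ) : Trunc p n) = 0 := by
      rw [← map_natCast (algebraMap (ZMod p) (Trunc p n)), ZMod.natCast_self, map_zero]
    have hp0 : τ₀ (MvPolynomial.C (p : ℤ)) = 0 := by simp [τ₀, φ, hpT]
    have hrel0 : τ₀ (rel ((p : ℤ) ^ e)) = 0 := by
      rcases hij with ⟨rfl, rfl⟩ | ⟨rfl, rfl⟩ <;> simp [τ₀, rel, φ, hpT, he.ne']
    have hfi : τ₀ h = Ideal.Quotient.mk _ (f.map φ) := by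
      rw [hform τ₀ hj0 hrel0 hp0, haev, hi1, eval_map, RingHom.ext_int (Int.castRingHom (Trunc p n))
        (((Ideal.Quotient.mk _).comp (C : ZMod p →+* (ZMod p)[X])).comp φ), ← eval₂_map]
      rw [← hom_eval₂, eval₂_C_X]
    have hhi : τ₀ h * τ₀ (MvPolynomial.X i) = 0 := by
      rw [hfi, hi1, ← map_mul, Ideal.Quotient.eq_zero_iff_mem, Ideal.mem_span_singleton, pow_succ]
      refine mul_dvd_mul_right (X_pow_dvd_iff.2 fun d hd => ?_) X
      exact coeff_eq_zero_of_lt_natTrailingDegree (hn ▸ hd)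
    have hhj : τ₀ h * τ₀ (MvPolynomial.X j) = 0 := by rw [hj0, mul_zero]
    have h01 : τ₀ (MvPolynomial.X 0) * τ₀ (MvPolynomial.X 1) = 0 := by
      rcases hij with ⟨rfl, rfl⟩ | ⟨rfl, rfl⟩ <;> simp [hj0]
    have hle := hkill τ₀ hp0 h01
      (by rcases hij with ⟨rfl, rfl⟩ | ⟨rfl, rfl⟩ <;> assumption)
      (by rcases hij with ⟨rfl, rfl⟩ | ⟨rfl, rfl⟩ <;> assumption)
    let τ : R →+* Trunc p n := RingHom.liftOfSurjective ρ hρ ⟨τ₀, hle⟩
    have hτ : ∀ g, τ (ρ g) = τ₀ g := fun g => RingHom.liftOfRightInverse_comp_apply ρ _ _ _ _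
    refine ⟨τ, ?_, (hτ _).trans hi1, (hτ _).trans hj0⟩
    refine RingHom.cancel_right hρ |>.1 (MvPolynomial.ringHom_ext (fun c => ?_) (fun k => ?_))
    · simp only [RingHom.comp_apply, hτ, hθ]
      simp [τ₀, θ₀, truncRes_mk, φ]
    · simp only [RingHom.comp_apply, hτ, hθ]
      rcases hij with ⟨rfl, rfl⟩ | ⟨rfl, rfl⟩ <;> fin_cases k <;> simp [τ₀, θ₀, truncRes_mk]
  obtain ⟨τ₁, hτ₁, hF₁, hV₁⟩ := branch 0 1 (Or.inl ⟨rfl, rfl⟩) u a ha hub0 (by
    intro T _ τ hj hrel _
    rw [hτh τ hrel, normalForm, map_add, map_mul, hj, zero_mul, add_zero])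
  obtain ⟨τ₂, hτ₂, hV₂, hF₂⟩ := branch 1 0 (Or.inr ⟨rfl, rfl⟩) (X * w) b hb (by simp) (by
    intro T _ τ hj hrel hp0
    obtain ⟨d, hd⟩ := (ZMod.intCast_zmod_eq_zero_iff_dvd _ _).1 hub0
    rw [hτh τ hrel, normalForm, map_add, haev, hj, ← coeff_zero_eq_eval_zero, coeff_map, eq_intCast, hd,
      Int.cast_mul, show (((p : ℤ) : T)) = τ (MvPolynomial.C (p : ℤ)) by simp, hp0, zero_mul, zero_add,
      map_mul (aeval (MvPolynomial.X 1)), aeval_X])
  let P' : Ideal R := Ideal.span {(p : R)}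
  have hCP : ∀ c : ℤ, (c : ZMod p) = 0 → ρ (MvPolynomial.C c) ∈ P' := fun c hc => by
    obtain ⟨d, rfl⟩ := (ZMod.intCast_zmod_eq_zero_iff_dvd _ _).1 hc
    rw [MvPolynomial.C_mul, map_mul, show ρ (MvPolynomial.C (p : ℤ)) = (p : R) by simp]
    exact Ideal.mul_mem_right _ _ (Ideal.mem_span_singleton_self _)
  have hker' : ∀ g ∈ enlIdeal ((p : ℤ) ^ e) s h, ρ g = 0 := fun g hg => by
    rw [← x.ker_eval₁ hh hP hq hD hs hPs] at hg
    exact Subtype.ext hg
  have hFVP : ρ (MvPolynomial.X 0) * ρ (MvPolynomial.X 1) ∈ P' := by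
    have h1 := hker' (rel ((p : ℤ) ^ e)) (Ideal.subset_span (by simp))
    rw [rel, map_sub, map_mul, sub_eq_zero] at h1
    rw [h1]; exact hCP _ hqp
  -- `h F` and `h V` vanish mod `p`
  have hhP : ∀ i : Fin 2, ρ (normalForm u w) * ρ (MvPolynomial.X i) ∈ P' := by
    intro i
    have h1 := hker' (h * (MvPolynomial.X i - MvPolynomial.C s)) (Ideal.subset_span (by fin_cases i <;> simp))
    have h2 : ρ h = ρ (normalForm u w) := map_sym_eq huw hker'
    rw [map_mul, map_sub, h2, mul_sub, sub_eq_zero] at h1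
    rw [h1]
    exact Ideal.mul_mem_left _ _ (hCP _ hsp)
  have hFa : ρ (MvPolynomial.X 0) ^ (a + 1) * ρ (aeval (MvPolynomial.X 0) gu) ∈ P' := by
    have h1 := hhP 0
    rw [normalForm, map_add, add_mul, map_mul ρ (MvPolynomial.X 1)] at h1
    have h2 : ρ (MvPolynomial.X 1) * ρ (aeval (MvPolynomial.X 1) w) * ρ (MvPolynomial.X 0) ∈ P' := by
      rw [mul_right_comm, mul_comm (ρ (MvPolynomial.X 1))]
      exact Ideal.mul_mem_right _ _ hFVP
    have h3 := sub_mem h1 h2
    rw [add_sub_cancel_right, hgu, map_add, map_mul, map_pow, aeval_X, map_add, map_mul, map_pow,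
      add_mul] at h3
    have h4 : ρ (aeval (MvPolynomial.X 0) (C (p : ℤ) * ru)) * ρ (MvPolynomial.X 0) ∈ P' := by
      rw [map_mul, aeval_C, map_mul]
      exact Ideal.mul_mem_right _ _ (Ideal.mul_mem_right _ _ (by simp [P', Ideal.mem_span_singleton_self]))
    have h5 := sub_mem h3 h4
    rw [add_sub_cancel_right] at h5
    convert h5 using 1
    ring
  have hVb : ρ (MvPolynomial.X 1) ^ (b + 1) * ρ (aeval (MvPolynomial.X 1) gv) ∈ P' := by
    have h1 := hhP 1
    rw [normalForm, map_add, add_mul] at h1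
    have h2 : ρ (aeval (MvPolynomial.X 0) u) * ρ (MvPolynomial.X 1) ∈ P' := by
      have e1 : aeval (MvPolynomial.X 0 : FV) u = MvPolynomial.X 0 *
          aeval (MvPolynomial.X 0 : FV) u.divX + MvPolynomial.C (u.coeff 0) := by
        conv_lhs => rw [← X_mul_divX_add u]
        simp
      rw [e1, map_add, map_mul, add_mul, mul_right_comm]
      exact add_mem (Ideal.mul_mem_right _ _ hFVP) (Ideal.mul_mem_right _ _ (hCP _ hub0))
    have h3 := sub_mem h1 h2
    rw [add_sub_cancel_left, show MvPolynomial.X 1 * aeval (MvPolynomial.X 1) w =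
      aeval (MvPolynomial.X 1 : FV) (X * w) by simp, hgv, map_add, map_mul, map_pow, aeval_X, map_add,
      map_mul, map_pow, add_mul] at h3
    have h4 : ρ (aeval (MvPolynomial.X 1) (C (p : ℤ) * rv)) * ρ (MvPolynomial.X 1) ∈ P' := by
      rw [map_mul, aeval_C, map_mul]
      exact Ideal.mul_mem_right _ _ (Ideal.mul_mem_right _ _ (by simp [P', Ideal.mem_span_singleton_self]))
    have h5 := sub_mem h3 h4
    rw [add_sub_cancel_right] at h5
    convert h5 using 1
    ring
  have hpreg : IsSMulRegular R (p : R) := by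
    intro y z hyz
    apply Subtype.ext
    have hu' : IsUnit (p : A × ℚ) := by
      rw [Prod.isUnit_iff]
      exact ⟨by simpa using hpA, by simpa using (Fact.out : p.Prime).ne_zero⟩
    have := congrArg Subtype.val hyz
    simp only [smul_eq_mul, Subalgebra.coe_mul] at this
    rw [show (((p : R) : R) : A × ℚ) = (p : A × ℚ) from map_natCast R.val p] at this
    exact hu'.mul_left_cancel this
  have hker_θ : RingHom.ker θ ≤ Ideal.span {(p : R), ρ (MvPolynomial.X 0), ρ (MvPolynomial.X 1)} := by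
    intro z hz
    obtain ⟨g, rfl⟩ := hρ z
    rw [RingHom.mem_ker, hθ] at hz
    have hm := mem_span_point 0 g
    obtain ⟨c, d, hcd⟩ := Ideal.mem_span_pair.1 hm
    have hg0 : ((evS 0 g : ℤ) : ZMod p) = 0 := by
      rw [← hz]
      exact RingHom.congr_fun (MvPolynomial.ringHom_ext (f := φ.comp (evS 0).toRingHom) (g := θ₀)
        (fun r => by simp [θ₀, evS, φ]) (fun i => by fin_cases i <;> simp [θ₀, evS, φ])) g
    have e1 : g = c * MvPolynomial.X 0 + d * MvPolynomial.X 1 + MvPolynomial.C (evS 0 g) := by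
      simp only [map_zero, sub_zero] at hcd
      rw [hcd]; ring
    rw [e1, map_add, map_add, map_mul, map_mul]
    refine add_mem (add_mem (Ideal.mul_mem_left _ _ (Ideal.subset_span (by simp)))
      (Ideal.mul_mem_left _ _ (Ideal.subset_span (by simp)))) ?_
    exact Ideal.span_mono (by simp) (hCP _ hg0)
  refine not_isGorensteinRing hpreg θ _ _ hker_θ hFVP ha1 hb1 _ _ ?_ ?_ hFa hVb τ₁ hτ₁ hF₁ hV₁ τ₂ hτ₂ hF₂ hV₂
  · rw [hθ, haev]
    simpa [θ₀, ← coeff_zero_eq_eval_zero] using hgu0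
  · rw [hθ, haev]
    simpa [θ₀, ← coeff_zero_eq_eval_zero] using hgv0

end Groth.Agent.WeilNumLib
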