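import Groth.Agent.WeilNumLib.Sym
import Mathlib.NumberTheory.Padics.Complex
import Mathlib.RingTheory.LocalRing.ResidueField.Basic
import Mathlib.RingTheory.Valuation.ValuationSubring
import Mathlib.RingTheory.IntegralClosure.IntegrallyClosed
import Mathlib.RingTheory.Bezout
import Mathlib.RingTheory.Valuation.ValuationRing
import Mathlib.RingTheory.Valuation.LocalSubring
import Mathlib.RingTheory.Polynomial.RationalRoot

/-!
# Slope zero roots of a Weil polynomial
-/

set_option autoImplicit false

open Polynomial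

namespace Groth.Agent.WeilNumLib

variable (p : ℕ) [Fact p.Prime]

/-- The valuation ring of `PadicAlgCl p`. -/
noncomputable abbrev padicO : ValuationSubring (PadicAlgCl p) :=
  (Valued.v (R := PadicAlgCl p)).valuationSubring

theorem mem_padicO {z : PadicAlgCl p} : z ∈ padicO p ↔ ‖z‖ ≤ 1 := by
  rw [Valuation.mem_valuationSubring_iff, PadicAlgCl.valuation_def, ← NNReal.coe_le_coe, coe_nnnorm,
    NNReal.coe_one]

theorem residue_eq_zero_iff (x : padicO p) :
    IsLocalRing.residue (padicO p) x = 0 ↔ ‖(x : PadicAlgCl p)‖ < 1 := by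
  have hu : IsUnit x ↔ ‖(x : PadicAlgCl p)‖ = 1 := by
    constructor
    · rintro ⟨u, rfl⟩
      have h1 := (mem_padicO p).1 (u : padicO p).2
      have h2 := (mem_padicO p).1 ((u⁻¹ : (padicO p)ˣ) : padicO p).2
      have h3 : ‖((u : padicO p) : PadicAlgCl p)‖ * ‖(((u⁻¹ : (padicO p)ˣ) : padicO p) : PadicAlgCl p)‖ = 1 := by
        rw [← norm_mul, ← Subring.coe_mul (padicO p).toSubring, Units.mul_inv]
        exact norm_one
      nlinarith [norm_nonneg ((u : padicO p) : PadicAlgCl p),
        norm_nonneg ((((u⁻¹ : (padicO p)ˣ) : padicO p)) : PadicAlgCl p)]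
    · intro h
      have hx : (x : PadicAlgCl p) ≠ 0 := fun h0 => by simp [h0] at h
      refine IsUnit.of_mul_eq_one ⟨(x : PadicAlgCl p)⁻¹, (mem_padicO p).2 (by rw [norm_inv, h, inv_one])⟩ ?_
      exact Subtype.ext (mul_inv_cancel₀ hx)
  rw [IsLocalRing.residue_eq_zero_iff, IsLocalRing.mem_maximalIdeal, mem_nonunits_iff, hu]
  exact ⟨fun h => lt_of_le_of_ne ((mem_padicO p).1 x.2) h, fun h => h.ne⟩

theorem natCast_residue : (p : IsLocalRing.ResidueField (padicO p)) = 0 := by
  rw [← map_natCast (IsLocalRing.residue (padicO p)), residue_eq_zero_iff]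
  have h := PadicAlgCl.valuation_p p
  rw [PadicAlgCl.valuation_def] at h
  have h' : ‖(p : PadicAlgCl p)‖ = 1 / (p : ℝ) := by
    rw [← coe_nnnorm, h]; simp
  show ‖(p : PadicAlgCl p)‖ < 1
  rw [h', div_lt_one (by exact_mod_cast (Fact.out : p.Prime).pos)]
  exact_mod_cast (Fact.out : p.Prime).one_lt

instance charP_residue : CharP (IsLocalRing.ResidueField (padicO p)) p :=
  (CharP.charP_iff_prime_eq_zero (Fact.out : p.Prime)).2 (natCast_residue p)

theorem aroots_mem_padicO {P : ℤ[X]} (hP : P.Monic) {z : PadicAlgCl p}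
    (hz : z ∈ P.aroots (PadicAlgCl p)) : z ∈ padicO p := by
  have h : IsIntegral (padicO p) z :=
    IsIntegral.tower_top (R := ℤ) ⟨P, hP, (mem_aroots.1 hz).2⟩
  obtain ⟨y, hy⟩ := IsIntegrallyClosed.isIntegral_iff.1 h
  exact hy ▸ y.2

/-- The number of unit roots plus the order of vanishing mod `p` is the degree. -/
theorem card_unit_roots {P : ℤ[X]} (hP : P.Monic) :
    Multiset.card ((P.aroots (PadicAlgCl p)).filter fun z => ‖z‖ = 1) +
      (P.map (Int.castRingHom (IsLocalRing.ResidueField (padicO p)))).natTrailingDegree =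
      P.natDegree := by
  classical
  set s := P.aroots (PadicAlgCl p) with hs
  let t : Multiset (padicO p) := s.attach.map fun z => ⟨z.1, aroots_mem_padicO p hP z.2⟩
  have hts : t.map (fun x : padicO p => (x : PadicAlgCl p)) = s := by
    rw [Multiset.map_map]; exact Multiset.attach_map_val s
  have hprod : (P.map (Int.castRingHom (padicO p))) = (t.map fun x => X - C x).prod := by
    apply Polynomial.map_injective (padicO p).subtype Subtype.val_injective
    rw [map_map, RingHom.ext_int ((padicO p).subtype.comp (Int.castRingHom (padicO p)))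
      (algebraMap ℤ (PadicAlgCl p)), Polynomial.map_multiset_prod, Multiset.map_map]
    conv_lhs => rw [(IsAlgClosed.splits (P.map (algebraMap ℤ (PadicAlgCl p)))).eq_prod_roots_of_monic
      (hP.map _)]
    rw [← aroots_def, ← hs]
    conv_lhs => rw [← hts]
    rw [Multiset.map_map]
    simp
  set f := P.map (Int.castRingHom (IsLocalRing.ResidueField (padicO p))) with hf
  have hfprod : f = ((t.map (IsLocalRing.residue (padicO p))).map fun x => X - C x).prod := by
    rw [hf, RingHom.ext_int (Int.castRingHom (IsLocalRing.ResidueField (padicO p)))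
      ((IsLocalRing.residue (padicO p)).comp (Int.castRingHom (padicO p))), ← map_map, hprod,
      Polynomial.map_multiset_prod, Multiset.map_map, Multiset.map_map]
    simp [t, Multiset.map_map, Function.comp_def]
  have hroots : f.roots = t.map (IsLocalRing.residue (padicO p)) := by
    rw [hfprod, roots_multiset_prod_X_sub_C]
  have hcount : f.natTrailingDegree = Multiset.card (s.filter fun z => ¬ ‖z‖ = 1) := by
    rw [← rootMultiplicity_eq_natTrailingDegree', ← count_roots, hroots, Multiset.count_map]
    conv_rhs => rw [← hts, Multiset.filter_map, Multiset.card_map]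
    refine congrArg Multiset.card (Multiset.filter_congr fun x _ => ?_)
    rw [eq_comm (a := (0 : IsLocalRing.ResidueField (padicO p))), residue_eq_zero_iff]
    exact ⟨fun h => h.ne, fun h => lt_of_le_of_ne ((mem_padicO p).1 x.2) h⟩
  rw [hcount, ← Multiset.card_add, Multiset.filter_add_not, hs, aroots_def,
    IsAlgClosed.card_roots_eq_natDegree, hP.natDegree_map]

/-- A nonreal Weil polynomial is ordinary iff its middle coefficient is prime to `p`. -/
theorem IsWeilPoly.ordinary_iff {e : ℕ} (he : 0 < e) {P : ℤ[X]} (hP : IsWeilPoly ((p : ℤ) ^ e) P)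
    {d : ℕ} (hd : P.natDegree = 2 * d) :
    2 * Multiset.card ((P.aroots (PadicAlgCl p)).filter fun z => ‖z‖ = 1) = P.natDegree ↔
      ¬ (p : ℤ) ∣ P.coeff d := by
  have hq : ((p : ℤ) ^ e) ≠ 0 := pow_ne_zero _ (by exact_mod_cast (Fact.out : p.Prime).ne_zero)
  obtain ⟨ε, -, -, hsym⟩ := hP.even_degree hq hd
  have hc := card_unit_roots p hP.monic
  set f := P.map (Int.castRingHom (IsLocalRing.ResidueField (padicO p))) with hf
  have hz : ∀ j, f.coeff j = 0 ↔ (p : ℤ) ∣ P.coeff j := fun j => by
    rw [hf, coeff_map, eq_intCast, CharP.intCast_eq_zero_iff _ p]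
  have hf0 : f ≠ 0 := (hP.monic.map _).ne_zero
  have hlow : d ≤ f.natTrailingDegree := by
    refine le_natTrailingDegree hf0 fun j hj => (hz j).2 ?_
    have := hsym (d - j) (by omega)
    rw [show d - (d - j) = j by omega] at this
    rw [this]
    exact dvd_mul_of_dvd_left (dvd_mul_of_dvd_right
      (dvd_pow (dvd_pow_self _ he.ne') (by omega)) _) _
  constructor
  · intro h hdiv
    have htd : f.natTrailingDegree = d := by omega
    apply coeff_natTrailingDegree_ne_zero.2 hf0
    rw [htd, (hz d).2 hdiv]
  · intro hdiv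
    have : f.natTrailingDegree ≤ d := natTrailingDegree_le_of_ne_zero fun h => hdiv ((hz d).1 h)
    omega

/-- At most half of the roots of a Weil polynomial of even degree are units. -/
theorem IsWeilPoly.two_mul_card_le {e : ℕ} (he : 0 < e) {P : ℤ[X]} (hP : IsWeilPoly ((p : ℤ) ^ e) P)
    {d : ℕ} (hd : P.natDegree = 2 * d) :
    2 * Multiset.card ((P.aroots (PadicAlgCl p)).filter fun z => ‖z‖ = 1) ≤ P.natDegree := by
  have hq : ((p : ℤ) ^ e) ≠ 0 := pow_ne_zero _ (by exact_mod_cast (Fact.out : p.Prime).ne_zero)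
  obtain ⟨ε, -, -, hsym⟩ := hP.even_degree hq hd
  have hc := card_unit_roots p hP.monic
  set f := P.map (Int.castRingHom (IsLocalRing.ResidueField (padicO p))) with hf
  have hlow : d ≤ f.natTrailingDegree := by
    refine le_natTrailingDegree (hP.monic.map _).ne_zero fun j hj => ?_
    rw [hf, coeff_map, eq_intCast, CharP.intCast_eq_zero_iff _ p, show j = d - (d - j) by omega,
      hsym (d - j) (by omega)]
    exact dvd_mul_of_dvd_left (dvd_mul_of_dvd_right
      (dvd_pow (dvd_pow_self _ he.ne') (by omega)) _) _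
  omega

/-- All factors are ordinary iff the middle coefficient of the product is prime to `p`. -/
theorem forall_ordinary_iff_prod {e : ℕ} (he : 0 < e) {ι : Type*} [Fintype ι] {P : ι → ℤ[X]}
    (hP : ∀ i, IsWeilPoly ((p : ℤ) ^ e) (P i)) (hev : ∀ i, Even (P i).natDegree) {D : ℕ}
    (hD : (∏ i, P i).natDegree = 2 * D) :
    (∀ i, 2 * Multiset.card (((P i).aroots (PadicAlgCl p)).filter fun z => ‖z‖ = 1) = (P i).natDegree) ↔
      ¬ (p : ℤ) ∣ (∏ i, P i).coeff D := by
  classical
  rw [← (IsWeilPoly.prod Finset.univ fun i _ => hP i).ordinary_iff p he hD]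
  have hcard : ∀ s : Finset ι,
      Multiset.card (((∏ i ∈ s, P i).aroots (PadicAlgCl p)).filter fun z => ‖z‖ = 1) =
        ∑ i ∈ s, Multiset.card (((P i).aroots (PadicAlgCl p)).filter fun z => ‖z‖ = 1) := by
    intro s
    induction s using Finset.induction_on with
    | empty => simp
    | insert a s ha ih =>
      rw [Finset.prod_insert ha, Finset.sum_insert ha, aroots_mul (mul_ne_zero (hP a).monic.ne_zero
        (monic_prod_of_monic s _ fun i _ => (hP i).monic).ne_zero), Multiset.filter_add, Multiset.card_add, ih]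
  rw [hcard, Finset.mul_sum, natDegree_prod_of_monic _ _ fun i _ => (hP i).monic,
    Finset.sum_eq_sum_iff_of_le fun i _ => (hP i).two_mul_card_le p he
      (Nat.two_mul_div_two_of_even (hev i)).symm]
  simp

end Groth.Agent.WeilNumLib
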