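import Mathlib.RingTheory.PicardGroup
import Mathlib.RingTheory.TensorProduct.Maps

/-!
# Surjectivity of Picard groups for a quotient with a large complement
-/

set_option autoImplicit false

universe u

open CommRing

namespace Groth.Agent.WeilNumLib

/-- An invertible submodule can be scaled into an integral ideal avoiding finitely many maximal
ideals, by a scalar that is a unit. -/
theorem exists_scale {R : Type u} {A : Type*} [CommRing R] [CommRing A] [Algebra R A] [FaithfulSMul R A]
    [Finite (MaximalSpectrum A)] (U : (Submodule R A)ˣ) {T : Set (Ideal R)} (hT : T.Finite)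
    (hmax : ∀ m ∈ T, m.IsMaximal) :
    ∃ a : A, IsUnit a ∧ (∀ u ∈ (U : Submodule R A), ∃ r : R, algebraMap R A r = a * u) ∧
      ∀ m ∈ T, ∃ u ∈ (U : Submodule R A), ∃ r : R, algebraMap R A r = a * u ∧ r ∉ m := by
  classical
  have hover : ∀ M : MaximalSpectrum A, ∃ m : Ideal R, m.IsMaximal ∧ M.asIdeal.comap (algebraMap R A) ≤ m :=
    fun M => Ideal.exists_le_maximal _ (Ideal.comap_ne_top _ M.isMaximal.ne_top)
  choose over hover1 hover2 using hover
  let T' : Finset (Ideal R) := (hT.union (Set.finite_range over)).toFinset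
  have hT' : ∀ m ∈ T', m.IsMaximal := by
    intro m hm
    rcases (Set.Finite.mem_toFinset _).1 hm with h | ⟨M, rfl⟩
    · exact hmax m h
    · exact hover1 M
  have hint : ∀ w ∈ (↑U⁻¹ : Submodule R A), ∀ u ∈ (U : Submodule R A), ∃ r : R, algebraMap R A r = w * u :=
    fun w hw u hu => Submodule.mem_one.1 (U.inv_mul ▸ Submodule.mul_mem_mul hw hu)
  have hexists : ∀ m : T', ∃ w ∈ (↑U⁻¹ : Submodule R A), ∃ u ∈ (U : Submodule R A), ∃ r : R,
      algebraMap R A r = w * u ∧ r ∉ m.1 := by
    intro m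
    by_contra! hall
    have h1 : (↑U⁻¹ : Submodule R A) * (U : Submodule R A) ≤ Submodule.map (Algebra.linearMap R A) m.1 :=
      Submodule.mul_le.2 fun w hw u hu => by
        obtain ⟨r, hr⟩ := hint w hw u hu
        exact ⟨r, hall w hw u hu r hr, hr⟩
    rw [U.inv_mul] at h1
    obtain ⟨r, hr, hr1⟩ := h1 (Submodule.mem_one.2 ⟨1, map_one _⟩)
    rw [Algebra.linearMap_apply, ← map_one (algebraMap R A)] at hr1
    rw [FaithfulSMul.algebraMap_injective R A hr1] at hr
    exact (hT' m.1 m.2).ne_top ((Ideal.eq_top_iff_one _).2 hr)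
  choose w hw u hu r hr hrm using hexists
  have hsep : ∀ m : T', ∃ b : R, b ∉ m.1 ∧ ∀ n : T', n ≠ m → b ∈ n.1 := by
    intro m
    have hnle : ¬ (T'.erase m.1).inf id ≤ m.1 := fun hle => by
      obtain ⟨n, hn, hnm⟩ := (Ideal.IsPrime.inf_le' (hT' m.1 m.2).isPrime).1 hle
      exact (Finset.mem_erase.1 hn).1
        ((hT' n (Finset.mem_erase.1 hn).2).eq_of_le (hT' m.1 m.2).ne_top hnm)
    obtain ⟨b, hb, hbm⟩ := SetLike.not_le_iff_exists.1 hnle
    refine ⟨b, hbm, fun n hn => ?_⟩
    exact Finset.inf_le (f := id) (Finset.mem_erase.2 ⟨fun h => hn (Subtype.ext h), n.2⟩) hb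
  choose b hbm hbn using hsep
  let a : A := ∑ m : T', algebraMap R A (b m) * w m
  have hamem : a ∈ (↑U⁻¹ : Submodule R A) := sum_mem fun m _ => by
    rw [← Algebra.smul_def]; exact Submodule.smul_mem _ _ (hw m)
  have haT : ∀ m : T', ∃ u ∈ (U : Submodule R A), ∃ r : R, algebraMap R A r = a * u ∧ r ∉ m.1 := by
    intro m
    choose c hc using fun n : T' => hint (w n) (hw n) (u m) (hu m)
    refine ⟨u m, hu m, ∑ n : T', b n * c n, ?_, fun hsum => ?_⟩
    · rw [map_sum, Finset.sum_mul]
      exact Finset.sum_congr rfl fun n _ => by rw [map_mul, hc, mul_assoc]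
    · have hcm : c m = r m := FaithfulSMul.algebraMap_injective R A ((hc m).trans (hr m).symm)
      have : b m * c m ∈ m.1 := by
        rw [← Finset.add_sum_erase _ _ (Finset.mem_univ m)] at hsum
        exact (Ideal.add_mem_iff_left _ (sum_mem fun n hn =>
          Ideal.mul_mem_right _ _ (hbn n m (Finset.mem_erase.1 hn).1.symm))).1 hsum
      rcases (hT' m.1 m.2).isPrime.mem_or_mem this with h | h
      · exact hbm m h
      · exact hrm m (hcm ▸ h)
  refine ⟨a, ?_, fun v hv => hint a hamem v hv, fun m hm => ?_⟩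
  · by_contra hu'
    obtain ⟨M, hM, haM⟩ := exists_max_ideal_of_mem_nonunits hu'
    have hmem : over ⟨M, hM⟩ ∈ T' := (Set.Finite.mem_toFinset _).2 (Or.inr ⟨_, rfl⟩)
    obtain ⟨v, -, c, hc, hcm⟩ := haT ⟨_, hmem⟩
    exact hcm (hover2 ⟨M, hM⟩ (by rw [Ideal.mem_comap, hc]; exact Ideal.mul_mem_right _ _ haM))
  · exact haT ⟨m, (Set.Finite.mem_toFinset _).2 (Or.inl hm)⟩

/-- `Pic` surjects for a surjection `φ : R →+* R'` when `R ⊆ A`, `R' ⊆ A'`, `A'` splits off `A` and
the elements of `R` supported on `A'` generate, in `R'`, an ideal in finitely many maximal ideals. -/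
theorem pic_map_surjective {R R' : Type u} {A A' : Type*} [CommRing R] [CommRing R'] [CommRing A] [CommRing A']
    [Algebra R A] [FaithfulSMul R A] [Algebra R' A'] [FaithfulSMul R' A'] [Finite (MaximalSpectrum A')]
    (φ : R →+* R') (hφ : Function.Surjective φ) (res : A →+* A')
    (hres : ∀ r, res (algebraMap R A r) = algebraMap R' A' (φ r))
    (e : A' →+ A) (he : ∀ a, res (e a) = a) (hemul : ∀ x a, e (res x * a) = x * e a)
    (S : Ideal R) (hS : ∀ s ∈ S, e (res (algebraMap R A s)) = algebraMap R A s)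
    (hfin : {m : Ideal R' | m.IsMaximal ∧ S.map φ ≤ m}.Finite) :
    Function.Surjective (Pic.mapRingHom φ) := by
  intro L
  have hL : L ∈ relPic R' A' := by rw [relPic_eq_top]; trivial
  rw [← Submodule.range_unitsToPic] at hL
  obtain ⟨U, rfl⟩ := hL
  obtain ⟨a, ha, haint, haT⟩ := exists_scale U hfin fun m hm => hm.1
  let J : (Submodule R' A')ˣ := Units.map (Submodule.spanSingleton R').toMonoidHom ha.unit * U
  have hJU : Submodule.unitsToPic R' A' J = Submodule.unitsToPic R' A' U := by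
    have : Units.map (Submodule.spanSingleton R').toMonoidHom ha.unit ∈
        (Submodule.unitsToPic R' A').ker := by
      rw [Submodule.ker_unitsToPic]; exact ⟨_, rfl⟩
    rw [map_mul, MonoidHom.mem_ker.1 this, one_mul]
  have hJmem : ∀ y : A', y ∈ (J : Submodule R' A') ↔ ∃ u ∈ (U : Submodule R' A'), y = a * u := by
    intro y
    show y ∈ Submodule.span R' {a} * (U : Submodule R' A') ↔ _
    rw [Submodule.mem_span_singleton_mul]
    simp [eq_comm]
  have hJint : ∀ y ∈ (J : Submodule R' A'), ∃ r : R, algebraMap R' A' (φ r) = y := by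
    intro y hy
    obtain ⟨u, hu, rfl⟩ := (hJmem y).1 hy
    obtain ⟨r', hr'⟩ := haint u hu
    obtain ⟨r, rfl⟩ := hφ r'
    exact ⟨r, hr'⟩
  let J₀ : Ideal R := Ideal.comap φ ((J : Submodule R' A').comap (Algebra.linearMap R' A'))
  have hJ₀ : ∀ r, r ∈ J₀ ↔ algebraMap R' A' (φ r) ∈ (J : Submodule R' A') := fun r => Iff.rfl
  let J₁ : Submodule R A := Submodule.map (Algebra.linearMap R A) J₀
  let K₁ : Submodule R A := 1 / J₁
  have hle : J₁ * K₁ ≤ 1 := by
    rw [mul_comm]; exact Submodule.le_div_iff_mul_le.1 le_rfl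
  have hge : (1 : Submodule R A) ≤ J₁ * K₁ := by
    let I : Ideal R := (J₁ * K₁).comap (Algebra.linearMap R A)
    have h1K : (1 : A) ∈ K₁ := Submodule.mem_div_iff_forall_mul_mem.2 (by
      rintro _ ⟨r, -, rfl⟩
      rw [one_mul]
      exact Submodule.mem_one.2 ⟨r, rfl⟩)
    have hJI : J₀ ≤ I := fun r hr => by
      show algebraMap R A r ∈ J₁ * K₁
      simpa using Submodule.mul_mem_mul (M := J₁) ⟨r, hr, rfl⟩ h1K
    have hSI : S ≤ I := by
      intro s hs
      show algebraMap R A s ∈ J₁ * K₁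
      have h1 : (1 : A') ∈ (J : Submodule R' A') * (↑J⁻¹ : Submodule R' A') := by
        rw [J.mul_inv]; exact Submodule.mem_one.2 ⟨1, map_one _⟩
      suffices h : ∀ y ∈ (J : Submodule R' A') * (↑J⁻¹ : Submodule R' A'),
          e (y * res (algebraMap R A s)) ∈ J₁ * K₁ by
        have := h 1 h1
        rwa [one_mul, hS s hs] at this
      intro y hy
      induction hy using Submodule.mul_induction_on' with
      | add x _ y _ hx hy => rw [add_mul, map_add]; exact add_mem hx hy
      | mem_mul_mem j hj k hk =>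
        obtain ⟨r, hr⟩ := hJint j hj
        rw [← hr, ← hres, mul_assoc, hemul]
        refine Submodule.mul_mem_mul ⟨r, ?_, rfl⟩ (Submodule.mem_div_iff_forall_mul_mem.2 ?_)
        · exact (hJ₀ r).2 (hr ▸ hj)
        · rintro _ ⟨x, hx, rfl⟩
          obtain ⟨t', ht'⟩ := Submodule.mem_one.1 (J.mul_inv ▸ Submodule.mul_mem_mul ((hJ₀ x).1 hx) hk)
          obtain ⟨t, rfl⟩ := hφ t'
          refine Submodule.mem_one.2 ⟨t * s, ?_⟩
          rw [Algebra.linearMap_apply, mul_comm _ (algebraMap R A x), ← hemul, hres x,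
            ← mul_assoc, ← ht', ← hres t, hemul, hS s hs, map_mul]
    have htop : (J₀ ⊔ S).map φ = ⊤ := by
      by_contra hne
      obtain ⟨m, hm, hle⟩ := Ideal.exists_le_maximal _ hne
      rw [Ideal.map_sup] at hle
      obtain ⟨u, hu, r', hr', hrm⟩ := haT m ⟨hm, le_sup_right.trans hle⟩
      obtain ⟨r, rfl⟩ := hφ r'
      exact hrm (hle (le_sup_left (b := S.map φ)
        (Ideal.mem_map_of_mem φ ((hJ₀ r).2 ((hJmem _).2 ⟨u, hu, hr'⟩)))))
    have hI : I = ⊤ := by
      rw [eq_top_iff]
      intro x _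
      have hx : φ x ∈ (J₀ ⊔ S).map φ := by rw [htop]; trivial
      obtain ⟨y, hy, hxy⟩ := (Ideal.mem_map_iff_of_surjective φ hφ).1 hx
      rw [← sub_add_cancel x y]
      refine add_mem (hJI ((hJ₀ _).2 ?_)) (sup_le hJI hSI hy)
      rw [map_sub, hxy, sub_self, map_zero]
      exact zero_mem _
    intro x hx
    obtain ⟨r, rfl⟩ := Submodule.mem_one.1 hx
    exact (eq_top_iff.1 hI) (Submodule.mem_top (x := r))
  let J₁u : (Submodule R A)ˣ := ⟨J₁, K₁, le_antisymm hle hge, by
    rw [mul_comm]; exact le_antisymm hle hge⟩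
  refine ⟨Submodule.unitsToPic R A J₁u, ?_⟩
  rw [← hJU]
  letI : Algebra R R' := φ.toAlgebra
  letI : Algebra R A' := ((algebraMap R' A').comp φ).toAlgebra
  haveI : IsScalarTower R R' A' := IsScalarTower.of_algebraMap_eq fun _ => rfl
  show Pic.mapAlgebra R R' (Submodule.unitsToPic R A J₁u) = Submodule.unitsToPic R' A' J
  rw [Pic.mapAlgebra_apply, Submodule.unitsToPic_apply R' A', Pic.mk_eq_mk_iff]
  let g : J₁ →ₗ[R] (J : Submodule R' A') :=
    { toFun := fun x => ⟨res (x : A), by
        obtain ⟨r, hr, hrx⟩ := x.2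
        rw [← hrx, Algebra.linearMap_apply, hres]
        exact (hJ₀ r).1 hr⟩
      map_add' := fun x y => Subtype.ext (by simp)
      map_smul' := fun c x => Subtype.ext (by
        simp only [RingHom.id_apply, SetLike.val_smul, Algebra.smul_def, map_mul, hres,
          Submodule.coe_smul_of_tower]
        rfl) }
  let g' : TensorProduct R R' J₁ →ₗ[R'] (J : Submodule R' A') := g.liftBaseChange R'
  have hg' : Function.Surjective g' := by
    rintro ⟨y, hy⟩
    obtain ⟨r, hr⟩ := hJint y hy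
    refine ⟨TensorProduct.tmul R 1 ⟨algebraMap R A r, r, (hJ₀ r).2 (hr ▸ hy), rfl⟩, ?_⟩
    rw [LinearMap.liftBaseChange_tmul, one_smul]
    exact Subtype.ext ((hres r).trans hr)
  haveI : Module.Invertible R J₁ := Module.Invertible.left (Submodule.tensorInvEquiv J₁u)
  exact ⟨(TensorProduct.AlgebraTensorModule.congr (LinearEquiv.refl R' R') (Submodule.unitsToPicEquiv J₁u)).trans
    (LinearEquiv.ofBijective g' (Module.Invertible.bijective_of_surjective hg'))⟩

end Groth.Agent.WeilNumLib
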