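import Groth.Agent.WeilNumLib.Family
import Groth.Agent.WeilNumLib.PicSurj
import Mathlib.RingTheory.IntegralClosure.IsIntegralClosure.Basic
import Mathlib.GroupTheory.FiniteAbelian.Basic
import Mathlib.RingTheory.Adjoin.Basic

/-!
# `Pic` of the minimal order surjects onto that of a subfamily
-/

set_option autoImplicit false

universe u

open Polynomial

namespace Groth.Agent.WeilNumLib

/-- `q/π` is a root of the same Weil polynomial. -/
theorem IsWeilPoly.aeval_div {q : ℤ} {P : ℤ[X]} (hP : IsWeilPoly q P) (hq : q ≠ 0) {K : Type*}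
    [Field K] [CharZero K] {π : K} (hπ : aeval π P = 0) : aeval ((q : K) / π) P = 0 := by
  have hπ0 : π ≠ 0 := by
    intro h
    rw [h, aeval_def, eval₂_at_zero, eq_intCast] at hπ
    exact hP.coeff_zero_ne_zero hq (by exact_mod_cast hπ)
  have key : aeval ((q : K) / π) P * π ^ P.natDegree = (P.coeff 0 : K) * aeval π P := by
    rw [aeval_eq_sum_range, aeval_eq_sum_range, Finset.sum_mul, Finset.mul_sum,
      ← Finset.sum_range_reflect (fun j => (P.coeff 0 : K) * P.coeff j • π ^ j) (P.natDegree + 1)]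
    refine Finset.sum_congr rfl fun j hj => ?_
    have hj : j ≤ P.natDegree := by have := Finset.mem_range.1 hj; omega
    rw [show P.natDegree + 1 - 1 - j = P.natDegree - j by omega, zsmul_eq_mul, zsmul_eq_mul,
      ← mul_assoc (P.coeff 0 : K), ← Int.cast_mul, ← hP.coeff_mul_pow hq hj, Int.cast_mul, Int.cast_pow,
      div_pow]
    have : π ^ P.natDegree = π ^ j * π ^ (P.natDegree - j) := by rw [← pow_add]; congr 1; omega
    rw [this]
    field_simp
  rw [hπ, mul_zero] at key
  exact (mul_eq_zero.1 key).resolve_right (pow_ne_zero _ hπ0)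

/-- In an integral algebra the multiples of an element invertible in an overring contain a nonzero
integer. -/
theorem exists_intCast_mem {R A : Type*} [CommRing R] [CommRing A] (ι : R →+* A) (hι : Function.Injective ι)
    {x : R} (hx : IsIntegral ℤ x) (hu : IsUnit (ι x)) :
    ∃ n : ℤ, n ≠ 0 ∧ (n : R) ∈ Ideal.span {x} := by
  obtain ⟨c, hcm, hc⟩ := hx
  obtain ⟨g, hg, hg0⟩ := c.exists_eq_pow_rootMultiplicity_mul_and_not_dvd hcm.ne_zero 0
  rw [map_zero, sub_zero] at hg hg0
  have hgx : aeval x g = 0 := by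
    apply hι
    rw [map_zero]
    have h1 : ι (aeval x c) = 0 := by rw [aeval_def, hc, map_zero]
    rw [hg, map_mul, map_pow, aeval_X, map_mul, map_pow] at h1
    exact (hu.pow _).mul_right_eq_zero.1 h1
  refine ⟨g.coeff 0, fun h => hg0 (X_dvd_iff.2 h), Ideal.mem_span_singleton'.2 ⟨-aeval x g.divX, ?_⟩⟩
  rw [← X_mul_divX_add g, map_add, map_mul, aeval_X, aeval_C, eq_intCast] at hgx
  linear_combination -hgx

theorem finite_maximal_of_intCast_mem {R : Type*} [CommRing R] [Module.Finite ℤ R] {I : Ideal R} {n : ℤ}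
    (hn : n ≠ 0) (hI : (n : R) ∈ I) : {m : Ideal R | m.IsMaximal ∧ I ≤ m}.Finite := by
  haveI : Module.Finite ℤ (R ⧸ I) := Module.Finite.of_surjective
    (Ideal.Quotient.mk I).toIntAlgHom.toLinearMap Ideal.Quotient.mk_surjective
  haveI : AddGroup.FG (R ⧸ I) := Module.Finite.iff_addGroup_fg.1 inferInstance
  haveI : Finite (R ⧸ I) := AddCommGroup.finite_of_fg_torsion _ fun z => by
    rw [isOfFinAddOrder_iff_nsmul_eq_zero]
    refine ⟨n.natAbs, Int.natAbs_pos.2 hn, ?_⟩
    have h0 : (n : R ⧸ I) = 0 := by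
      rw [← map_intCast (Ideal.Quotient.mk I), Ideal.Quotient.eq_zero_iff_mem]; exact hI
    rw [nsmul_eq_mul]
    have : ((n.natAbs : ℕ) : R ⧸ I) = 0 := by
      rcases Int.natAbs_eq n with h | h <;> rw [h] at h0
      · simpa using h0
      · simpa using h0
    rw [this, zero_mul]
  have hsurj : Function.Surjective (Ideal.Quotient.mk I) := Ideal.Quotient.mk_surjective
  haveI : Finite (Ideal (R ⧸ I)) := Finite.of_injective (fun J => (J : Set (R ⧸ I))) SetLike.coe_injective
  refine Set.Finite.of_finite_image (f := Ideal.map (Ideal.Quotient.mk I)) (Set.toFinite _) ?_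
  intro a ha b hb hab
  have := congrArg (Ideal.comap (Ideal.Quotient.mk I)) hab
  rwa [Ideal.comap_map_quotientMk, Ideal.comap_map_quotientMk, sup_eq_right.2 ha.2,
    sup_eq_right.2 hb.2] at this

theorem pic_surjective_subfamily {q : ℤ} (hq : q ≠ 0) {J J' : Type} [Fintype J] [Fintype J']
    (emb : J' → J) (hemb : Function.Injective emb) (K : J → Type u) [∀ j, Field (K j)] [∀ j, CharZero (K j)]
    (ϖ : ∀ j, K j) (hint : ∀ j, IsIntegral ℤ (ϖ j)) (hW : ∀ j, IsWeilPoly q (minpoly ℤ (ϖ j)))
    (hinj : ∀ i j, minpoly ℤ (ϖ i) = minpoly ℤ (ϖ j) → i = j)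
    (v : ∀ j, K j) (hv : ∀ j, v j = (q : K j) / ϖ j)
    (hle : RingHom.ker (MvPolynomial.aeval ![fun j => ϖ j, fun j => v j] : FV →ₐ[ℤ] ((j : J) → K j)) ≤
      RingHom.ker (MvPolynomial.aeval ![fun j' => ϖ (emb j'), fun j' => v (emb j')] :
        FV →ₐ[ℤ] ((j' : J') → K (emb j')))) :
    Function.Surjective (CommRing.Pic.mapRingHom (Ideal.Quotient.factor hle)) := by
  classical
  set ψ : FV →ₐ[ℤ] ((j : J) → K j) := MvPolynomial.aeval ![fun j => ϖ j, fun j => v j] with hψ
  set ψ' : FV →ₐ[ℤ] ((j' : J') → K (emb j')) :=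
    MvPolynomial.aeval ![fun j' => ϖ (emb j'), fun j' => v (emb j')] with hψ'
  let ι : FV ⧸ RingHom.ker ψ →+* ((j : J) → K j) := RingHom.kerLift ψ.toRingHom
  let ι' : FV ⧸ RingHom.ker ψ' →+* ((j' : J') → K (emb j')) := RingHom.kerLift ψ'.toRingHom
  letI := ι.toAlgebra
  letI := ι'.toAlgebra
  have hι : Function.Injective ι := RingHom.kerLift_injective _
  have hι' : Function.Injective ι' := RingHom.kerLift_injective _
  haveI : FaithfulSMul (FV ⧸ RingHom.ker ψ) ((j : J) → K j) := (faithfulSMul_iff_algebraMap_injective _ _).2 hι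
  haveI : FaithfulSMul (FV ⧸ RingHom.ker ψ') ((j' : J') → K (emb j')) :=
    (faithfulSMul_iff_algebraMap_injective _ _).2 hι'
  let res : ((j : J) → K j) →+* ((j' : J') → K (emb j')) := Pi.ringHom fun j' => Pi.evalRingHom K (emb j')
  let e : ((j' : J') → K (emb j')) →+ ((j : J) → K j) :=
    ∑ j' : J', (AddMonoidHom.single K (emb j')).comp (Pi.evalAddMonoidHom _ j')
  have he_apply : ∀ a, e a = ∑ j' : J', Pi.single (emb j') (a j') := fun a => by simp [e]
  have he : ∀ a, res (e a) = a := fun a => by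
    funext j'
    show e a (emb j') = a j'
    rw [he_apply, Finset.sum_apply, Finset.sum_eq_single j', Pi.single_eq_same]
    · exact fun b _ hb => Pi.single_eq_of_ne (fun h => hb (hemb h).symm) _
    · simp
  have hemul : ∀ x a, e (res x * a) = x * e a := fun x a => by
    rw [he_apply, he_apply, Finset.mul_sum]
    refine Finset.sum_congr rfl fun j' _ => ?_
    funext i
    rw [Pi.mul_apply]
    by_cases h : i = emb j'
    · subst h
      simp only [Pi.mul_apply, Pi.single_eq_same]
      rfl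
    · simp only [Pi.mul_apply, Pi.single_eq_of_ne h, mul_zero]
  have hfac : ∀ g : FV, Ideal.Quotient.factor hle (Ideal.Quotient.mk _ g) = Ideal.Quotient.mk _ g :=
    fun g => rfl
  have hresψ : ∀ g : FV, res (ψ g) = ψ' g := fun g => by
    have : (res.comp ψ.toRingHom) = ψ'.toRingHom := by
      refine MvPolynomial.ringHom_ext (fun r => ?_) (fun i => ?_)
      · simp
      · fin_cases i
        all_goals funext j'
        all_goals simp [ψ, ψ', res]
        all_goals rfl
    exact RingHom.congr_fun this g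
  let S : Ideal (FV ⧸ RingHom.ker ψ) :=
    { carrier := {s | e (res (ι s)) = ι s}
      add_mem' := fun {a b} ha hb => by
        show e (res (ι (a + b))) = ι (a + b)
        rw [map_add, map_add, map_add, ha, hb]
      zero_mem' := by simp
      smul_mem' := fun c s hs => by
        show e (res (ι (c * s))) = ι (c * s)
        rw [map_mul, map_mul, hemul, hs] }
  -- the product of the minimal polynomials outside the subfamily
  let B : ℤ[X] := ∏ j ∈ (Finset.univ.image emb)ᶜ, minpoly ℤ (ϖ j)
  let s₀ : FV := aeval (MvPolynomial.X 0) B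
  have hev : ∀ j, ψ s₀ j = aeval (ϖ j) B := fun j => by
    show Pi.evalAlgHom ℤ K j (ψ (aeval (MvPolynomial.X 0) B)) = _
    rw [← aeval_algHom_apply ψ, ← aeval_algHom_apply (Pi.evalAlgHom ℤ K j)]
    simp [ψ]
  have hB0 : ∀ j' : J', aeval (ϖ (emb j')) B ≠ 0 := by
    intro j' h0
    rw [map_prod, Finset.prod_eq_zero_iff] at h0
    obtain ⟨j, hj, hj0⟩ := h0
    rw [Finset.mem_compl] at hj
    refine hj (Finset.mem_image.2 ⟨j', Finset.mem_univ _, hinj _ _ ?_⟩)
    have hdvd := minpoly.isIntegrallyClosed_dvd (hint (emb j')) hj0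
    exact eq_of_monic_of_associated (minpoly.monic (hint _)) (minpoly.monic (hint _))
      ((minpoly.irreducible (hint _)).associated_of_dvd (minpoly.irreducible (hint _)) hdvd)
  have hsS : Ideal.Quotient.mk _ s₀ ∈ S := by
    show e (res (ψ s₀)) = ψ s₀
    funext j
    by_cases hj : ∃ j', emb j' = j
    · obtain ⟨j', rfl⟩ := hj
      exact congrFun (he (res (ψ s₀))) j'
    · rw [he_apply, Finset.sum_apply, Finset.sum_eq_zero fun b _ =>
        Pi.single_eq_of_ne (fun h => hj ⟨b, h.symm⟩) _, hev, map_prod]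
      exact (Finset.prod_eq_zero (f := fun i => aeval (ϖ j) (minpoly ℤ (ϖ i))) (i := j)
        (Finset.mem_compl.2 fun h => hj (by simpa using h)) (minpoly.aeval ℤ (ϖ j))).symm
  haveI hfinR' : Module.Finite ℤ (FV ⧸ RingHom.ker ψ') := by
    have hi : ∀ i : Fin 2, IsIntegral ℤ ((![fun j' => ϖ (emb j'), fun j' => v (emb j')] :
        Fin 2 → (j' : J') → K (emb j')) i) := by
      intro i
      let Q : ℤ[X] := ∏ j' : J', minpoly ℤ (ϖ (emb j'))
      have hQ : Q.Monic := monic_prod_of_monic _ _ fun j' _ => minpoly.monic (hint _)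
      have hpi : ∀ w : (j' : J') → K (emb j'), (∀ j', aeval (w j') (minpoly ℤ (ϖ (emb j'))) = 0) →
          IsIntegral ℤ w := fun w hw => ⟨Q, hQ, by
        funext j'
        show Pi.evalRingHom (fun j' => K (emb j')) j' (eval₂ (algebraMap ℤ _) w Q) = 0
        rw [Polynomial.hom_eval₂, RingHom.ext_int ((Pi.evalRingHom (fun j' => K (emb j')) j').comp
          (algebraMap ℤ ((j' : J') → K (emb j')))) (algebraMap ℤ (K (emb j'))), ← aeval_def, map_prod]
        exact Finset.prod_eq_zero (Finset.mem_univ j') (hw j')⟩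
      fin_cases i
      · exact hpi _ fun j' => minpoly.aeval ℤ _
      · refine hpi _ fun j' => ?_
        show aeval (v (emb j')) (minpoly ℤ (ϖ (emb j'))) = 0
        rw [hv]
        exact (hW _).aeval_div hq (minpoly.aeval ℤ _)
    haveI : Module.Finite ℤ (Algebra.adjoin ℤ (Set.range (![fun j' => ϖ (emb j'), fun j' => v (emb j')] :
        Fin 2 → (j' : J') → K (emb j')))) :=
      Module.Finite.iff_fg.2 (fg_adjoin_of_finite (Set.finite_range _) (by rintro _ ⟨i, rfl⟩; exact hi i))
    let l : FV ⧸ RingHom.ker ψ' →ₗ[ℤ] ((j' : J') → K (emb j')) := ι'.toIntAlgHom.toLinearMap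
    have hl : LinearMap.range l ≤ Subalgebra.toSubmodule (Algebra.adjoin ℤ (Set.range
        (![fun j' => ϖ (emb j'), fun j' => v (emb j')] : Fin 2 → (j' : J') → K (emb j')))) := by
      rintro _ ⟨x, rfl⟩
      obtain ⟨g, rfl⟩ := Ideal.Quotient.mk_surjective x
      show ψ' g ∈ Algebra.adjoin ℤ _
      rw [Algebra.adjoin_range_eq_range_aeval]
      exact ⟨g, rfl⟩
    exact Module.Finite.of_injective (LinearMap.codRestrict _ l fun x => hl ⟨x, rfl⟩)
      (fun a b h => hι' (congrArg Subtype.val h))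
  refine pic_map_surjective _ (Ideal.Quotient.factor_surjective hle) res (fun r => ?_) e he hemul S
    (fun s hs => hs) ?_
  · obtain ⟨g, rfl⟩ := Ideal.Quotient.mk_surjective r
    exact hresψ g
  · have hu : IsUnit (ι' (Ideal.Quotient.mk _ s₀)) := by
      show IsUnit (ψ' s₀)
      rw [← hresψ]
      exact Pi.isUnit_iff.2 fun j' => isUnit_iff_ne_zero.2 (by
        show ψ s₀ (emb j') ≠ 0
        rw [hev]; exact hB0 j')
    obtain ⟨n, hn, hmem⟩ := exists_intCast_mem ι' hι'
      (IsIntegral.of_finite ℤ (Ideal.Quotient.mk (RingHom.ker ψ') s₀)) hu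
    refine finite_maximal_of_intCast_mem hn ((Ideal.span_singleton_le_iff_mem _).2 ?_ hmem)
    rw [← hfac]
    exact Ideal.mem_map_of_mem _ hsS

end Groth.Agent.WeilNumLib
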