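import Groth.Agent.WeilNumLib.Order
import Mathlib.Algebra.Algebra.Prod
import Mathlib.RingTheory.IntegralClosure.IsIntegralClosure.Basic
import Mathlib.Data.Rat.Cast.Defs

/-!
# The minimal order of an even family enlarged by a rational Weil number
-/

set_option autoImplicit false

open Polynomial

namespace Groth.Agent.WeilNumLib

/-- Evaluation at `(s, s)`. -/
noncomputable def evS (s : ℤ) : FV →ₐ[ℤ] ℤ := MvPolynomial.aeval ![s, s]

/-- The ideal of the enlarged order. -/
noncomputable abbrev enlIdeal (q s : ℤ) (h : FV) : Ideal FV :=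
  Ideal.span {rel q, h * (MvPolynomial.X 0 - MvPolynomial.C s), h * (MvPolynomial.X 1 - MvPolynomial.C s)}

theorem evS_rel {q s : ℤ} (hs : s ^ 2 = q) : evS s (rel q) = 0 := by
  simp [evS, ← hs, sq]

theorem mem_span_point (s : ℤ) (g : FV) :
    g - MvPolynomial.C (evS s g) ∈ Ideal.span
      ({MvPolynomial.X 0 - MvPolynomial.C s, MvPolynomial.X 1 - MvPolynomial.C s} : Set FV) := by
  induction g using MvPolynomial.induction_on with
  | C a => simp [evS]
  | add a b ha hb =>
    have := add_mem ha hb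
    convert this using 1
    rw [map_add, map_add]; ring
  | mul_X a i ha =>
    have hX : MvPolynomial.X i - MvPolynomial.C s ∈ Ideal.span
        ({MvPolynomial.X 0 - MvPolynomial.C s, MvPolynomial.X 1 - MvPolynomial.C s} : Set FV) := by
      apply Ideal.subset_span
      fin_cases i <;> simp
    have := add_mem (Ideal.mul_mem_right (MvPolynomial.X i) _ ha)
      (Ideal.mul_mem_left _ (MvPolynomial.C (evS s a)) hX)
    convert this using 1
    have hi : evS s (MvPolynomial.X i) = s := by fin_cases i <;> simp [evS]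
    rw [map_mul, hi, MvPolynomial.C_mul]
    ring

theorem IsSymOf.evS_eq {q : ℤ} {P : ℤ[X]} {D : ℕ} {h : FV} (hh : IsSymOf q P D h) {s : ℤ}
    (hs : s ^ 2 = q) : s ^ D * evS s h = P.eval s := by
  obtain ⟨r, hr⟩ := Ideal.mem_span_singleton'.1 hh
  have := congrArg (evS s) hr
  rw [map_mul, evS_rel hs, mul_zero, map_sub, map_mul, map_pow, ← aeval_algHom_apply] at this
  simp only [evS, MvPolynomial.aeval_X, Matrix.cons_val_zero, coe_aeval_eq_eval] at this
  exact sub_eq_zero.1 this.symm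

theorem IsSymOf.evS_modEq {q : ℤ} {P : ℤ[X]} {D : ℕ} {h : FV} (hh : IsSymOf q P D h) (hP : IsWeilPoly q P)
    (hq : q ≠ 0) (hD : P.natDegree = 2 * D) {s : ℤ} (hs : s ^ 2 = q) :
    s ∣ evS s h - P.coeff D := by
  obtain ⟨u, w, huw, -, -, -, -, hu⟩ := hh.normal hP hq hD
  obtain ⟨r, hr⟩ := Ideal.mem_span_singleton'.1 huw
  have := congrArg (evS s) hr
  rw [map_mul, evS_rel hs, mul_zero, map_sub, normalForm, map_add, map_mul, ← aeval_algHom_apply,
    ← aeval_algHom_apply] at this
  simp only [evS, MvPolynomial.aeval_X, Matrix.cons_val_zero, Matrix.cons_val_one,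
    coe_aeval_eq_eval] at this
  have hu0 : u.eval s = s * u.divX.eval s + u.coeff 0 := by
    conv_lhs => rw [← X_mul_divX_add u]
    simp
  refine ⟨u.divX.eval s + w.eval s, ?_⟩
  have e := sub_eq_zero.1 this.symm
  simp only [evS]
  rw [e, hu0, hu 0, add_zero]
  ring

variable {q : ℤ} {P : ℤ[X]} {D : ℕ} {A : Type*} [CommRing A]

/-- Evaluation at the enlarged family. -/
noncomputable abbrev MinPt.eval₁ (x : MinPt q P D A) (s : ℤ) : FV →ₐ[ℤ] A × ℚ :=
  MvPolynomial.aeval ![(⟨x.f, (s : ℚ)⟩ : A × ℚ), ⟨x.v, (s : ℚ)⟩]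

theorem MinPt.eval₁_apply (x : MinPt q P D A) (s : ℤ) (g : FV) :
    x.eval₁ s g = (x.eval g, ((evS s g : ℤ) : ℚ)) := by
  induction g using MvPolynomial.induction_on with
  | C a => simp [evS, Prod.ext_iff]
  | add a b ha hb => simp [ha, hb]
  | mul_X a i ha =>
    rw [map_mul, ha]
    fin_cases i <;> simp [evS]

theorem MinPt.ker_eval₁ (x : MinPt q P D A) {h : FV} (hh : IsSymOf q P D h) (hP : IsWeilPoly q P)
    (hq : q ≠ 0) (hD : P.natDegree = 2 * D) {s : ℤ} (hs : s ^ 2 = q) (hPs : P.eval s ≠ 0) :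
    RingHom.ker (x.eval₁ s) = enlIdeal q s h := by
  have hh0 : evS s h ≠ 0 := fun h0 => hPs (by rw [← hh.evS_eq hs, h0, mul_zero])
  refine le_antisymm (fun g hg => ?_) (Ideal.span_le.2 ?_)
  · rw [RingHom.mem_ker, x.eval₁_apply, Prod.mk_eq_zero] at hg
    have hgJ : g ∈ symIdeal q h := by rw [← x.ker_eq hh hP hq hD]; exact hg.1
    obtain ⟨a, b, rfl⟩ := Ideal.mem_span_pair.1 hgJ
    have hb : evS s b = 0 := by
      have : evS s (a * rel q + b * h) = 0 := by exact_mod_cast hg.2
      rw [map_add, map_mul, map_mul, evS_rel hs, mul_zero, zero_add] at this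
      exact (mul_eq_zero.1 this).resolve_right hh0
    refine add_mem (Ideal.mul_mem_left _ a (Ideal.subset_span (by simp))) ?_
    have hbm := mem_span_point s b
    rw [hb, map_zero, sub_zero] at hbm
    obtain ⟨c, d, hcd⟩ := Ideal.mem_span_pair.1 hbm
    rw [← hcd, show (c * (MvPolynomial.X 0 - MvPolynomial.C s) + d * (MvPolynomial.X 1 - MvPolynomial.C s)) * h =
      c * (h * (MvPolynomial.X 0 - MvPolynomial.C s)) + d * (h * (MvPolynomial.X 1 - MvPolynomial.C s)) by ring]
    exact add_mem (Ideal.mul_mem_left _ c (Ideal.subset_span (by simp)))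
      (Ideal.mul_mem_left _ d (Ideal.subset_span (by simp)))
  · rintro y (rfl | rfl | rfl) <;> rw [SetLike.mem_coe, RingHom.mem_ker, x.eval₁_apply]
    · rw [x.eval_rel, evS_rel hs, Int.cast_zero, Prod.mk_zero_zero]
    all_goals rw [map_mul, x.eval_sym hh, zero_mul, map_mul, map_sub]
    all_goals simp [evS]

theorem MinPt.isIntegral_eval₁ (x : MinPt q P D A) (hP : IsWeilPoly q P) (hq : q ≠ 0)
    (hD : P.natDegree = 2 * D) (s : ℤ) : Algebra.IsIntegral ℤ (x.eval₁ s).range := by
  haveI := x.finite hP hq hD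
  constructor
  rintro ⟨z, g, rfl⟩
  rw [← isIntegral_algHom_iff (x.eval₁ s).range.val Subtype.val_injective]
  obtain ⟨c, hcm, hc⟩ := IsIntegral.of_finite ℤ
    (⟨x.eval g, AlgHom.mem_range_self _ g⟩ : x.eval.range)
  have hc' : aeval (x.eval g) c = 0 := by
    have := congrArg x.eval.range.val
      (show aeval (⟨x.eval g, AlgHom.mem_range_self _ g⟩ : x.eval.range) c = 0 from hc)
    rw [← aeval_algHom_apply, map_zero] at this
    exact this
  refine ⟨c * (X - C (evS s g)), hcm.mul (monic_X_sub_C _), ?_⟩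
  show aeval (x.eval₁ s g) (c * (X - C (evS s g))) = 0
  rw [x.eval₁_apply, map_mul]
  ext1
  · rw [Prod.fst_mul, show (aeval (x.eval g, ((evS s g : ℤ) : ℚ)) c).1 = AlgHom.fst ℤ A ℚ (aeval _ c) from rfl,
      ← aeval_algHom_apply]
    simp [hc']
  · rw [Prod.snd_mul]
    refine mul_eq_zero_of_right _ ?_
    simp [map_sub]

end Groth.Agent.WeilNumLib
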