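import Groth.Agent.WeilNumLib.Sym
import Mathlib.Algebra.Polynomial.Laurent
import Mathlib.Algebra.MvPolynomial.CommRing
import Mathlib.RingTheory.Regular.RegularSequence
import Mathlib.LinearAlgebra.LinearIndependent.Defs

/-!
# The ring `ℤ[F, V]/(FV - q, h)` attached to a Weil polynomial
-/

set_option autoImplicit false

open scoped LaurentPolynomial

namespace Groth.Agent.WeilNumLib

/-- The ring `ℤ[F, V]`. -/
abbrev FV : Type := MvPolynomial (Fin 2) ℤ

/-- The element `FV - q`. -/
noncomputable abbrev rel (q : ℤ) : FV := MvPolynomial.X 0 * MvPolynomial.X 1 - MvPolynomial.C q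

/-- The map `F ↦ T`, `V ↦ q/T`. -/
noncomputable def toL (q : ℤ) : FV →ₐ[ℤ] ℤ[T;T⁻¹] :=
  MvPolynomial.aeval ![LaurentPolynomial.T 1, LaurentPolynomial.C q * LaurentPolynomial.T (-1)]

/-- The normal form `u(F) + V w(V)`. -/
noncomputable def normalForm (u w : Polynomial ℤ) : FV :=
  Polynomial.aeval (MvPolynomial.X 0) u + MvPolynomial.X 1 * Polynomial.aeval (MvPolynomial.X 1) w

open Polynomial

theorem toL_X0 (q : ℤ) : toL q (MvPolynomial.X 0) = LaurentPolynomial.T 1 := by
  simp [toL]

theorem toL_X1 (q : ℤ) :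
    toL q (MvPolynomial.X 1) = LaurentPolynomial.C q * LaurentPolynomial.T (-1) := by
  simp [toL]

theorem toL_rel (q : ℤ) : toL q (rel q) = 0 := by
  simp [toL, rel]

theorem toL_aeval_X0 (q : ℤ) (u : ℤ[X]) :
    toL q (aeval (MvPolynomial.X 0) u) = toLaurent u := by
  rw [← Polynomial.aeval_algHom_apply, toL_X0]
  induction u using Polynomial.induction_on' with
  | add a b ha hb => simp [ha, hb]
  | monomial n a => simp [aeval_monomial]

theorem toL_aeval_X1 (q : ℤ) (w : ℤ[X]) :
    toL q (MvPolynomial.X 1 * aeval (MvPolynomial.X 1) w) =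
      w.sum fun j a => LaurentPolynomial.C (q ^ (j + 1) * a) * LaurentPolynomial.T (-(j + 1 : ℤ)) := by
  induction w using Polynomial.induction_on' with
  | add a b ha hb =>
    rw [Polynomial.sum_add_index] <;> simp_all [mul_add, add_mul]
  | monomial n a =>
    rw [Polynomial.sum_monomial_index a _ (by simp), map_mul, ← Polynomial.aeval_algHom_apply, toL_X1,
      aeval_monomial]
    simp only [mul_pow, LaurentPolynomial.T_pow, map_mul, map_pow, eq_intCast]
    rw [show (-(n + 1 : ℤ)) = (n : ℤ) * -1 + -1 by ring, LaurentPolynomial.T_add]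
    ring

theorem coeff_toLaurent_natCast (u : ℤ[X]) (i : ℕ) : (toLaurent u).coeff (i : ℤ) = u.coeff i := by
  rw [LaurentPolynomial.coeff_toLaurent]
  exact (Finsupp.mapDomain_apply Nat.castEmbedding.injective _ i)

theorem coeff_toLaurent_neg (u : ℤ[X]) (j : ℕ) : (toLaurent u).coeff (-(j + 1 : ℤ)) = 0 := by
  rw [LaurentPolynomial.coeff_toLaurent]
  refine Finsupp.mapDomain_of_notMem_range _ _ ?_
  rintro ⟨a, ha⟩
  rw [Nat.castEmbedding_apply] at ha
  omega

theorem coeff_wPart (q : ℤ) (w : ℤ[X]) (k : ℤ) :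
    (toL q (MvPolynomial.X 1 * aeval (MvPolynomial.X 1) w)).coeff k =
      w.sum fun j a => if -(j + 1 : ℤ) = k then q ^ (j + 1) * a else 0 := by
  rw [toL_aeval_X1, Polynomial.sum_def, Polynomial.sum_def, AddMonoidAlgebra.coeff_sum,
    Finsupp.finsetSum_apply]
  refine Finset.sum_congr rfl fun j _ => ?_
  rw [← LaurentPolynomial.single_eq_C_mul_T, AddMonoidAlgebra.coeff_single, Finsupp.single_apply]

theorem coeff_normalForm_pos (q : ℤ) (u w : ℤ[X]) (i : ℕ) :
    (toL q (normalForm u w)).coeff (i : ℤ) = u.coeff i := by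
  rw [normalForm, map_add, AddMonoidAlgebra.coeff_add, Finsupp.add_apply, toL_aeval_X0,
    coeff_toLaurent_natCast, coeff_wPart, Polynomial.sum_def, Finset.sum_eq_zero, add_zero]
  intro j _
  rw [if_neg]
  omega

theorem coeff_normalForm_neg (q : ℤ) (u w : ℤ[X]) (j : ℕ) :
    (toL q (normalForm u w)).coeff (-(j + 1 : ℤ)) = q ^ (j + 1) * w.coeff j := by
  rw [normalForm, map_add, AddMonoidAlgebra.coeff_add, Finsupp.add_apply, toL_aeval_X0,
    coeff_toLaurent_neg, coeff_wPart, zero_add, Polynomial.sum_def, Finset.sum_eq_single j]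
  · simp
  · intro b _ hb
    rw [if_neg]
    omega
  · intro h
    simp [Polynomial.notMem_support_iff.1 h]

variable (q : ℤ)

/-- Congruence modulo `FV - q`. -/
noncomputable abbrev relIdeal : Ideal FV := Ideal.span {rel q}

theorem exists_normalForm (g : FV) : ∃ u w : ℤ[X], g - normalForm u w ∈ relIdeal q := by
  induction g using MvPolynomial.induction_on with
  | C a => exact ⟨C a, 0, by simp [normalForm]⟩
  | add a b ha hb =>
    obtain ⟨u, w, h⟩ := ha
    obtain ⟨u', w', h'⟩ := hb
    refine ⟨u + u', w + w', ?_⟩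
    convert add_mem h h' using 1
    simp only [normalForm, map_add]
    ring
  | mul_X a i ha =>
    obtain ⟨u, w, h⟩ := ha
    have hmul := Ideal.mul_mem_right (MvPolynomial.X i) _ h
    have hrel (r : FV) : r * rel q ∈ relIdeal q :=
      Ideal.mul_mem_left _ r (Ideal.mem_span_singleton_self _)
    fin_cases i
    · refine ⟨X * u + C (q * w.coeff 0), C q * w.divX, ?_⟩
      convert add_mem hmul (hrel (aeval (MvPolynomial.X 1) w)) using 1
      have e : aeval (MvPolynomial.X 1 : FV) w = MvPolynomial.X 1 *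
          aeval (MvPolynomial.X 1 : FV) w.divX + MvPolynomial.C (w.coeff 0) := by
        conv_lhs => rw [← X_mul_divX_add w]
        simp
      simp only [normalForm, rel, e, map_add, map_mul, aeval_X, eq_intCast]
      push_cast
      simp [map_intCast]
      ring
    · refine ⟨C q * u.divX, X * w + C (u.coeff 0), ?_⟩
      convert add_mem hmul (hrel (aeval (MvPolynomial.X 0) u.divX)) using 1
      have e : aeval (MvPolynomial.X 0 : FV) u = MvPolynomial.X 0 *
          aeval (MvPolynomial.X 0 : FV) u.divX + MvPolynomial.C (u.coeff 0) := by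
        conv_lhs => rw [← X_mul_divX_add u]
        simp
      simp only [normalForm, rel, e, map_add, map_mul, aeval_X, eq_intCast]
      simp [map_intCast]
      ring

theorem mem_relIdeal_iff {q : ℤ} (hq : q ≠ 0) (g : FV) : g ∈ relIdeal q ↔ toL q g = 0 := by
  constructor
  · intro h
    obtain ⟨r, rfl⟩ := Ideal.mem_span_singleton'.1 h
    rw [map_mul, toL_rel, mul_zero]
  · intro h
    obtain ⟨u, w, hg⟩ := exists_normalForm q g
    obtain ⟨r, hr⟩ := Ideal.mem_span_singleton'.1 hg
    have h0 : toL q (normalForm u w) = 0 := by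
      have := congrArg (toL q) hr
      rw [map_mul, toL_rel, mul_zero, map_sub, h, zero_sub] at this
      exact neg_eq_zero.1 this.symm
    have hu : u = 0 := by
      ext i; rw [← coeff_normalForm_pos q u w i, h0]; simp
    have hw : w = 0 := by
      ext j
      have := coeff_normalForm_neg q u w j
      rw [h0] at this
      simpa [hq] using this.symm
    simpa [hu, hw, normalForm] using hg

theorem isPrime_relIdeal {q : ℤ} (hq : q ≠ 0) : (relIdeal q).IsPrime := by
  have : relIdeal q = RingHom.ker (toL q) := by ext g; exact mem_relIdeal_iff hq g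
  rw [this]
  exact RingHom.ker_isPrime _

theorem rel_ne_zero (q : ℤ) : rel q ≠ 0 := by
  intro h
  have := congrArg (MvPolynomial.eval ![1, q + 1]) h
  simp [rel] at this

variable {q} {P : ℤ[X]} {D : ℕ}

/-- The condition defining the symmetric polynomial `h`. -/
def IsSymOf (q : ℤ) (P : ℤ[X]) (D : ℕ) (h : FV) : Prop :=
  MvPolynomial.X 0 ^ D * h - Polynomial.aeval (MvPolynomial.X 0) P ∈ relIdeal q

theorem IsSymOf.toL_eq {h : FV} (hh : IsSymOf q P D h) (hq : q ≠ 0) :
    toL q h = toLaurent P * LaurentPolynomial.T (-(D : ℤ)) := by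
  have h1 := (mem_relIdeal_iff hq _).1 hh
  rw [map_sub, sub_eq_zero, map_mul, map_pow, toL_X0, LaurentPolynomial.T_pow, mul_one,
    toL_aeval_X0] at h1
  rw [← h1, LaurentPolynomial.T_mul, LaurentPolynomial.mul_T_assoc, add_neg_cancel,
    LaurentPolynomial.T_zero, mul_one]

theorem coeff_mul_T (f : ℤ[T;T⁻¹]) (m k : ℤ) :
    (f * LaurentPolynomial.T m).coeff k = f.coeff (k - m) := by
  induction f using LaurentPolynomial.induction_on' with
  | add a b ha hb => simp [add_mul, ha, hb]
  | C_mul_T n a =>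
    rw [LaurentPolynomial.mul_T_assoc, ← LaurentPolynomial.single_eq_C_mul_T,
      ← LaurentPolynomial.single_eq_C_mul_T, AddMonoidAlgebra.coeff_single,
      AddMonoidAlgebra.coeff_single, Finsupp.single_apply, Finsupp.single_apply]
    exact if_congr (by omega) rfl rfl

theorem IsSymOf.coeff_eq {h : FV} (hh : IsSymOf q P D h) (hq : q ≠ 0) :
    (∀ i : ℕ, (toL q h).coeff (i : ℤ) = P.coeff (D + i)) ∧
      ∀ j : ℕ, (toL q h).coeff (-(j + 1 : ℤ)) = if j < D then P.coeff (D - (j + 1)) else 0 := by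
  refine ⟨fun i => ?_, fun j => ?_⟩
  · rw [hh.toL_eq hq, coeff_mul_T, show (i : ℤ) - -(D : ℤ) = ((D + i : ℕ) : ℤ) by push_cast; ring,
      coeff_toLaurent_natCast]
  · rw [hh.toL_eq hq, coeff_mul_T]
    split
    · rw [show -(j + 1 : ℤ) - -(D : ℤ) = ((D - (j + 1) : ℕ) : ℤ) by omega, coeff_toLaurent_natCast]
    · rw [show -(j + 1 : ℤ) - -(D : ℤ) = -(((j - D : ℕ) : ℤ) + 1) by omega, coeff_toLaurent_neg]

/-- Existence of the symmetric polynomial. -/
theorem exists_isSymOf (hP : IsWeilPoly q P) (hq : q ≠ 0) (hD : P.natDegree = 2 * D) :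
    ∃ h, IsSymOf q P D h := by
  classical
  obtain ⟨ε, -, -, hsym⟩ := hP.even_degree hq hD
  obtain ⟨u, hu⟩ : ∃ u : ℤ[X], ∀ i, u.coeff i = P.coeff (D + i) :=
    ⟨∑ i ∈ Finset.range (D + 1), monomial i (P.coeff (D + i)), fun i => by
      rw [finsetSum_coeff]
      simp only [coeff_monomial, Finset.sum_ite_eq', Finset.mem_range]
      split
      · rfl
      · exact (coeff_eq_zero_of_natDegree_lt (by omega)).symm⟩
  obtain ⟨w, hw⟩ : ∃ w : ℤ[X], ∀ j, q ^ (j + 1) * w.coeff j =
      if j < D then P.coeff (D - (j + 1)) else 0 :=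
    ⟨∑ j ∈ Finset.range D, monomial j (ε * P.coeff (D + (j + 1))), fun j => by
      rw [finsetSum_coeff]
      simp only [coeff_monomial, Finset.sum_ite_eq', Finset.mem_range]
      split
      · rw [hsym (j + 1) (by omega)]; ring
      · simp⟩
  refine ⟨normalForm u w, (mem_relIdeal_iff hq _).2 ?_⟩
  rw [map_sub, sub_eq_zero, map_mul, map_pow, toL_X0, LaurentPolynomial.T_pow, mul_one,
    toL_aeval_X0, LaurentPolynomial.T_mul]
  refine LaurentPolynomial.ext fun k => ?_
  rw [coeff_mul_T]
  obtain ⟨i, hi⟩ | ⟨j, hj⟩ : (∃ i : ℕ, k - D = i) ∨ ∃ j : ℕ, k - D = -(j + 1 : ℤ) := by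
    rcases lt_or_ge (k - (D : ℤ)) 0 with h | h
    · exact .inr ⟨(-(k - D) - 1).toNat, by omega⟩
    · exact .inl ⟨(k - D).toNat, by omega⟩
  · rw [hi, coeff_normalForm_pos, hu, show k = ((D + i : ℕ) : ℤ) by omega,
      coeff_toLaurent_natCast]
  · rw [hj, coeff_normalForm_neg, hw]
    split
    · rw [show k = ((D - (j + 1) : ℕ) : ℤ) by omega, coeff_toLaurent_natCast]
    · rw [show k = -(((j - D : ℕ) : ℤ) + 1) by omega, coeff_toLaurent_neg]

/-- The normal form of `h`. -/
theorem IsSymOf.normal {h : FV} (hh : IsSymOf q P D h) (hP : IsWeilPoly q P) (hq : q ≠ 0)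
    (hD : P.natDegree = 2 * D) :
    ∃ u w : ℤ[X], h - normalForm u w ∈ relIdeal q ∧ u.coeff D = 1 ∧ (∀ i, D < i → u.coeff i = 0) ∧
      (∀ j, D ≤ j → w.coeff j = 0) ∧ (0 < D → w.coeff (D - 1) * w.coeff (D - 1) = 1) ∧
      (∀ i, u.coeff i = P.coeff (D + i)) := by
  obtain ⟨ε, hε, h0, -⟩ := hP.even_degree hq hD
  obtain ⟨u, w, huw⟩ := exists_normalForm q h
  have he : toL q h = toL q (normalForm u w) := by
    have := (mem_relIdeal_iff hq _).1 huw
    rwa [map_sub, sub_eq_zero] at this
  obtain ⟨hpos, hneg⟩ := hh.coeff_eq hq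
  have hu : ∀ i, u.coeff i = P.coeff (D + i) := fun i => by
    rw [← coeff_normalForm_pos q u w i, ← he, hpos]
  refine ⟨u, w, huw, ?_, fun i hi => ?_, fun j hj => ?_, fun hD0 => ?_, hu⟩
  · rw [hu, show D + D = P.natDegree by omega, hP.monic.coeff_natDegree]
  · rw [hu]; exact coeff_eq_zero_of_natDegree_lt (by omega)
  · have := coeff_normalForm_neg q u w j
    rw [← he, hneg, if_neg (by omega)] at this
    simpa [hq] using this.symm
  · have := coeff_normalForm_neg q u w (D - 1)
    rw [← he, hneg, if_pos (by omega), show D - 1 + 1 = D by omega, Nat.sub_self, h0,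
      mul_comm ε] at this
    rw [← mul_left_cancel₀ (pow_ne_zero D hq) this, hε]

theorem IsSymOf.not_mem {h : FV} (hh : IsSymOf q P D h) (hP : P ≠ 0) (hq : q ≠ 0) :
    h ∉ relIdeal q := fun hm => by
  have := (mem_relIdeal_iff hq _).1 hm
  rw [hh.toL_eq hq] at this
  rcases mul_eq_zero.1 this with h | h
  · exact hP (toLaurent_eq_zero.1 h)
  · exact (LaurentPolynomial.isUnit_T _).ne_zero h

theorem IsSymOf.isWeaklyRegular {h : FV} (hh : IsSymOf q P D h) (hP : P ≠ 0) (hq : q ≠ 0) :
    RingTheory.Sequence.IsWeaklyRegular FV [rel q, h] := by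
  refine RingTheory.Sequence.isWeaklyRegular_cons_iff _ _ _ |>.2 ⟨?_, ?_⟩
  · exact (isRegular_of_ne_zero (rel_ne_zero q)).left.isSMulRegular
  · refine RingTheory.Sequence.isWeaklyRegular_cons_iff _ _ _ |>.2
      ⟨?_, RingTheory.Sequence.IsWeaklyRegular.nil _ _⟩
    rw [isSMulRegular_iff_right_eq_zero_of_smul]
    intro y hy
    obtain ⟨x, rfl⟩ := Submodule.Quotient.mk_surjective _ y
    rw [← Submodule.Quotient.mk_smul, Submodule.Quotient.mk_eq_zero] at hy
    rw [Submodule.Quotient.mk_eq_zero]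
    revert hy
    intro hx
    rw [Submodule.mem_smul_pointwise_iff_exists] at hx ⊢
    obtain ⟨r, -, hr⟩ := hx
    have : h * x ∈ relIdeal q := by
      rw [← smul_eq_mul h x, ← hr]
      exact Ideal.mul_mem_right r _ (Ideal.mem_span_singleton_self _)
    obtain ⟨s, hs⟩ := Ideal.mem_span_singleton'.1
      ((isPrime_relIdeal hq).mem_or_mem this |>.resolve_left (hh.not_mem hP hq))
    exact ⟨s, Submodule.mem_top, by rw [smul_eq_mul, mul_comm, hs]⟩

end Groth.Agent.WeilNumLib
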