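import Groth.Agent.WeilNumLib.Kernel
import Mathlib.LinearAlgebra.LinearIndependent.Basic
import Mathlib.LinearAlgebra.FreeModule.Basic
import Mathlib.LinearAlgebra.Finsupp.LinearCombination

/-!
# Generators of `ℤ[F, V]/(FV - q, h)` and their independence
-/

set_option autoImplicit false

open Polynomial

namespace Groth.Agent.WeilNumLib

/-- The `2D` generators `F^i` (`i < D`) and `V^j` (`1 ≤ j ≤ D`). -/
noncomputable def gens (D : ℕ) : Fin D ⊕ Fin D → FV :=
  Sum.elim (fun i => MvPolynomial.X 0 ^ (i : ℕ)) (fun j => MvPolynomial.X 1 ^ ((j : ℕ) + 1))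

/-- The ideal `(FV - q, h)`. -/
noncomputable abbrev symIdeal (q : ℤ) (h : FV) : Ideal FV := Ideal.span {rel q, h}

theorem relIdeal_le_symIdeal (q : ℤ) (h : FV) : relIdeal q ≤ symIdeal q h :=
  Ideal.span_mono (by simp)

theorem gens_span {q : ℤ} {P : ℤ[X]} {D : ℕ} {h : FV} (hh : IsSymOf q P D h) (hP : IsWeilPoly q P)
    (hq : q ≠ 0) (hD : P.natDegree = 2 * D) (g : FV) :
    g ∈ Submodule.span ℤ (Set.range (gens D)) ⊔ (symIdeal q h).restrictScalars ℤ := by
  set J := symIdeal q h with hJ
  set N := Submodule.span ℤ (Set.range (gens D)) ⊔ J.restrictScalars ℤ with hN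
  obtain ⟨u, w, huw, huD, huhi, hwhi, hwD, -⟩ := hh.normal hP hq hD
  have hJN : ∀ x ∈ J, x ∈ N := fun x hx => Submodule.mem_sup_right hx
  have hrelJ : ∀ r : FV, r * rel q ∈ J := fun r =>
    Ideal.mul_mem_left _ r (Ideal.subset_span (by simp))
  have hnf : normalForm u w ∈ J := by
    have h1 : h ∈ J := Ideal.subset_span (by simp)
    simpa using sub_mem h1 (relIdeal_le_symIdeal q h huw)
  rcases Nat.eq_zero_or_pos D with hD0 | hD0
  · refine hJN g ?_
    have hu1 : u = 1 := by
      ext i
      rcases Nat.eq_zero_or_pos i with rfl | hi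
      · rw [coeff_one_zero, ← huD, hD0]
      · rw [huhi i (by omega), coeff_one, if_neg (by omega)]
    have hw0 : w = 0 := by ext j; rw [hwhi j (by omega), coeff_zero]
    rw [hu1, hw0] at hnf
    simp only [normalForm, map_one, map_zero, mul_zero, add_zero] at hnf
    rw [(Ideal.eq_top_iff_one J).2 hnf]
    trivial
  have hgen : ∀ x, gens D x ∈ N := fun x =>
    Submodule.mem_sup_left (Submodule.subset_span ⟨x, rfl⟩)
  have hF : ∀ i, i < D → (MvPolynomial.X 0 : FV) ^ i ∈ N := fun i hi => hgen (.inl ⟨i, hi⟩)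
  have hV : ∀ j, j ≤ D → (MvPolynomial.X 1 : FV) ^ j ∈ N := fun j hj => by
    rcases j with - | j
    · simpa using hF 0 hD0
    · exact hgen (.inr ⟨j, hj⟩)
  have hsmul : ∀ (c : ℤ) (x : FV), x ∈ N → MvPolynomial.C c * x ∈ N := fun c x hx => by
    rw [← MvPolynomial.smul_eq_C_mul]; exact N.smul_mem c hx
  have hudeg : u.natDegree < D + 1 := Nat.lt_succ_of_le (natDegree_le_iff_coeff_eq_zero.2 huhi)
  have hwdeg : w.natDegree < D - 1 + 1 := Nat.lt_succ_of_le
    (natDegree_le_iff_coeff_eq_zero.2 fun j hj => hwhi j (by omega))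
  have eu : aeval (MvPolynomial.X 0 : FV) u =
      ∑ i ∈ Finset.range D, MvPolynomial.C (u.coeff i) * MvPolynomial.X 0 ^ i +
        MvPolynomial.X 0 ^ D := by
    rw [aeval_eq_sum_range' hudeg, Finset.sum_range_succ, huD, one_smul]
    simp only [MvPolynomial.smul_eq_C_mul]
  have ew : MvPolynomial.X 1 * aeval (MvPolynomial.X 1 : FV) w =
      ∑ j ∈ Finset.range (D - 1), MvPolynomial.C (w.coeff j) * MvPolynomial.X 1 ^ (j + 1) +
        MvPolynomial.C (w.coeff (D - 1)) * MvPolynomial.X 1 ^ D := by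
    rw [aeval_eq_sum_range' hwdeg, Finset.mul_sum, Finset.sum_range_succ]
    simp only [MvPolynomial.smul_eq_C_mul]
    congr 1
    · exact Finset.sum_congr rfl fun j _ => by rw [pow_succ]; ring
    · rw [mul_left_comm, ← pow_succ', Nat.sub_add_cancel hD0]
  have hFV : ∀ i, MvPolynomial.X 1 * (MvPolynomial.X 0 : FV) ^ (i + 1) =
      MvPolynomial.C q * MvPolynomial.X 0 ^ i + MvPolynomial.X 0 ^ i * rel q := fun i => by
    rw [rel, pow_succ]; ring
  have hVF : ∀ j, MvPolynomial.X 0 * (MvPolynomial.X 1 : FV) ^ (j + 1) =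
      MvPolynomial.C q * MvPolynomial.X 1 ^ j + MvPolynomial.X 1 ^ j * rel q := fun j => by
    rw [rel, pow_succ]; ring
  have hFD : (MvPolynomial.X 0 : FV) ^ D ∈ N := by
    have : (MvPolynomial.X 0 : FV) ^ D = normalForm u w
        - ∑ i ∈ Finset.range D, MvPolynomial.C (u.coeff i) * MvPolynomial.X 0 ^ i
        - MvPolynomial.X 1 * aeval (MvPolynomial.X 1 : FV) w := by
      rw [normalForm, eu]; ring
    rw [this, ew]
    refine sub_mem (sub_mem (hJN _ hnf) (sum_mem fun i hi => ?_)) (add_mem (sum_mem fun j hj => ?_) ?_)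
    · exact hsmul _ _ (hF i (Finset.mem_range.1 hi))
    · exact hsmul _ _ (hV _ (by have := Finset.mem_range.1 hj; omega))
    · exact hsmul _ _ (hV D le_rfl)
  have hVD : (MvPolynomial.X 1 : FV) ^ (D + 1) ∈ N := by
    have hw1 : MvPolynomial.C (w.coeff (D - 1)) * MvPolynomial.C (w.coeff (D - 1)) = (1 : FV) := by
      rw [← MvPolynomial.C_mul, hwD hD0, MvPolynomial.C_1]
    have hkey : MvPolynomial.C (w.coeff (D - 1)) * MvPolynomial.X 1 ^ (D + 1) ∈ N := by
      have : MvPolynomial.C (w.coeff (D - 1)) * (MvPolynomial.X 1 : FV) ^ (D + 1) =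
          MvPolynomial.X 1 * normalForm u w
          - ∑ i ∈ Finset.range D, MvPolynomial.C (u.coeff i) * (MvPolynomial.X 1 * MvPolynomial.X 0 ^ i)
          - MvPolynomial.X 1 * MvPolynomial.X 0 ^ D
          - ∑ j ∈ Finset.range (D - 1), MvPolynomial.C (w.coeff j) * MvPolynomial.X 1 ^ (j + 2) := by
        rw [normalForm, eu, ew, mul_add, mul_add, mul_add, Finset.mul_sum, Finset.mul_sum]
        have e1 : ∀ i, MvPolynomial.X 1 * (MvPolynomial.C (u.coeff i) * (MvPolynomial.X 0 : FV) ^ i) =
            MvPolynomial.C (u.coeff i) * (MvPolynomial.X 1 * MvPolynomial.X 0 ^ i) := fun i => by ring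
        have e2 : ∀ j, MvPolynomial.X 1 * (MvPolynomial.C (w.coeff j) * (MvPolynomial.X 1 : FV) ^ (j + 1)) =
            MvPolynomial.C (w.coeff j) * MvPolynomial.X 1 ^ (j + 2) := fun j => by ring
        simp only [e1, e2]
        ring
      rw [this]
      refine sub_mem (sub_mem (sub_mem (hJN _ (Ideal.mul_mem_left _ _ hnf))
        (sum_mem fun i hi => hsmul _ _ ?_)) ?_) (sum_mem fun j hj => hsmul _ _ (hV _ ?_))
      · rcases i with - | i
        · simpa using hV 1 hD0
        · rw [hFV]
          exact add_mem (hsmul _ _ (hF i (by have := Finset.mem_range.1 hi; omega))) (hJN _ (hrelJ _))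
      · obtain ⟨d, hd⟩ : ∃ d, D = d + 1 := ⟨D - 1, by omega⟩
        rw [hd, hFV]
        exact add_mem (hsmul _ _ (hF d (by omega))) (hJN _ (hrelJ _))
      · have := Finset.mem_range.1 hj; omega
    have := hsmul (w.coeff (D - 1)) _ hkey
    rwa [← mul_assoc, hw1, one_mul] at this
  have hmul : ∀ (i : Fin 2) (x : FV), x ∈ N → x * MvPolynomial.X i ∈ N := by
    intro i x hx
    obtain ⟨s, hs, r, hr, rfl⟩ := Submodule.mem_sup.1 hx
    rw [add_mul]
    refine add_mem ?_ (hJN _ (Ideal.mul_mem_right _ _ hr))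
    have hle : Submodule.span ℤ (Set.range (gens D)) ≤
        N.comap (LinearMap.mulRight ℤ (MvPolynomial.X i : FV)) := by
      rw [Submodule.span_le]
      rintro - ⟨x, rfl⟩
      simp only [SetLike.mem_coe, Submodule.mem_comap, LinearMap.mulRight_apply]
      obtain rfl | rfl : i = 0 ∨ i = 1 := by fin_cases i <;> simp
      · rcases x with a | b
        · simp only [gens, Sum.elim_inl]
          rw [show (MvPolynomial.X 0 : FV) ^ (a : ℕ) * MvPolynomial.X ((0 : Fin 2)) =
            MvPolynomial.X 0 ^ ((a : ℕ) + 1) from (pow_succ _ _).symm]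
          rcases eq_or_lt_of_le (Nat.succ_le_of_lt a.isLt) with e | e
          · rw [show (a : ℕ) + 1 = D from e]; exact hFD
          · exact hF _ e
        · simp only [gens, Sum.elim_inr]
          rw [mul_comm, hVF]
          exact add_mem (hsmul _ _ (hV _ (by omega))) (hJN _ (hrelJ _))
      · rcases x with a | b
        · simp only [gens, Sum.elim_inl]
          rw [mul_comm]
          obtain ⟨_ | k, hk⟩ := a
          · simpa using hV 1 hD0
          · rw [hFV]
            exact add_mem (hsmul _ _ (hF _ (by omega))) (hJN _ (hrelJ _))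
        · simp only [gens, Sum.elim_inr]
          rw [show (MvPolynomial.X 1 : FV) ^ ((b : ℕ) + 1) * MvPolynomial.X ((1 : Fin 2)) =
            MvPolynomial.X 1 ^ ((b : ℕ) + 2) from (pow_succ _ _).symm]
          rcases eq_or_lt_of_le (Nat.succ_le_of_lt b.isLt) with e | e
          · rw [show (b : ℕ) + 2 = D + 1 by omega]; exact hVD
          · exact hV _ (by omega)
    exact hle hs
  induction g using MvPolynomial.induction_on with
  | C a => simpa using hsmul a 1 (by simpa using hF 0 hD0)
  | add a b ha hb => exact add_mem ha hb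
  | mul_X a i ha => exact hmul i a ha

/-- A point of `(FV = q, P(F) = 0)` in which `P` is the minimal polynomial. -/
structure MinPt (q : ℤ) (P : ℤ[X]) (D : ℕ) (A : Type*) [CommRing A] where
  /-- The value of `F`. -/
  f : A
  /-- The value of `V`. -/
  v : A
  mul_eq : f * v = (q : A)
  isUnit : IsUnit f
  root : aeval f P = 0
  indep : ∀ G : ℤ[X], G.degree < (2 * D : ℕ) → aeval f G = 0 → G = 0

variable {q : ℤ} {P : ℤ[X]} {D : ℕ} {A : Type*} [CommRing A]

/-- Evaluation of `ℤ[F, V]` at the point. -/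
noncomputable abbrev MinPt.eval (x : MinPt q P D A) : FV →ₐ[ℤ] A :=
  MvPolynomial.aeval ![x.f, x.v]

theorem MinPt.eval_rel (x : MinPt q P D A) : x.eval (rel q) = 0 := by
  simp [rel, x.mul_eq]

theorem MinPt.eval_sym (x : MinPt q P D A) {h : FV} (hh : IsSymOf q P D h) : x.eval h = 0 := by
  obtain ⟨r, hr⟩ := Ideal.mem_span_singleton'.1 hh
  have := congrArg x.eval hr
  rw [map_mul, x.eval_rel, mul_zero, map_sub, map_mul, map_pow, ← aeval_algHom_apply] at this
  simp only [MinPt.eval, MvPolynomial.aeval_X, Matrix.cons_val_zero, x.root, sub_zero] at this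
  exact (x.isUnit.pow D).mul_right_eq_zero.1 this.symm

theorem MinPt.linearIndependent (x : MinPt q P D A) (hq : q ≠ 0) :
    LinearIndependent ℤ fun i => x.eval (gens D i) := by
  rw [Fintype.linearIndependent_iff]
  intro c hc i
  classical
  let G : ℤ[X] := ∑ a : Fin D, monomial (D + (a : ℕ)) (c (.inl a)) +
    ∑ b : Fin D, monomial (D - ((b : ℕ) + 1)) (q ^ ((b : ℕ) + 1) * c (.inr b))
  have hGdeg : G.degree < (2 * D : ℕ) := by
    refine lt_of_le_of_lt (degree_add_le _ _) (max_lt ?_ ?_) <;>
      refine lt_of_le_of_lt (degree_sum_le _ _) ((Finset.sup_lt_iff (WithBot.bot_lt_coe _)).2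
        fun a _ => lt_of_le_of_lt (degree_monomial_le _ _) ?_) <;>
      exact WithBot.coe_lt_coe.2 (by simp only [Nat.cast_id]; omega)
  have hGev : aeval x.f G = 0 := by
    have h1 : x.f ^ D * ∑ i, c i • x.eval (gens D i) = aeval x.f G := by
      simp only [G, map_add, map_sum, aeval_monomial, Fintype.sum_sum_type, mul_add, Finset.mul_sum,
        gens, Sum.elim_inl, Sum.elim_inr, MinPt.eval, map_pow, MvPolynomial.aeval_X, zsmul_eq_mul,
        Matrix.cons_val_zero, Matrix.cons_val_one, algebraMap_int_eq, eq_intCast]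
      congr 1
      · exact Finset.sum_congr rfl fun a _ => by rw [pow_add]; ring
      · refine Finset.sum_congr rfl fun b _ => ?_
        rw [Int.cast_mul, Int.cast_pow, ← x.mul_eq, mul_pow]
        have e : x.f ^ D = x.f ^ (D - ((b : ℕ) + 1)) * x.f ^ ((b : ℕ) + 1) := by
          rw [← pow_add, Nat.sub_add_cancel b.isLt]
        rw [e]
        ring
    rw [← h1, hc, mul_zero]
  have hG := x.indep G hGdeg hGev
  rcases i with a | b
  · have := congrArg (fun g => g.coeff (D + (a : ℕ))) hG
    simp only [G, coeff_add, finsetSum_coeff, coeff_monomial, coeff_zero] at this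
    rw [Finset.sum_eq_single a (fun b _ hb => if_neg fun h => hb (Fin.ext (by omega))) (by simp),
      if_pos rfl, Finset.sum_eq_zero (fun b _ => if_neg (by omega)), add_zero] at this
    exact this
  · have := congrArg (fun g => g.coeff (D - ((b : ℕ) + 1))) hG
    simp only [G, coeff_add, finsetSum_coeff, coeff_monomial, coeff_zero] at this
    rw [Finset.sum_eq_zero (fun a _ => if_neg (by omega)), zero_add,
      Finset.sum_eq_single b (fun a _ ha => if_neg fun h => ha (Fin.ext (by omega))) (by simp),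
      if_pos rfl] at this
    exact (mul_eq_zero.1 this).resolve_left (pow_ne_zero _ hq)

theorem MinPt.ker_eq (x : MinPt q P D A) {h : FV} (hh : IsSymOf q P D h) (hP : IsWeilPoly q P)
    (hq : q ≠ 0) (hD : P.natDegree = 2 * D) :
    RingHom.ker x.eval = symIdeal q h := by
  refine le_antisymm (fun g hg => ?_) ?_
  · obtain ⟨s, hs, r, hr, rfl⟩ := Submodule.mem_sup.1 (gens_span hh hP hq hD g)
    obtain ⟨c, rfl⟩ := (Submodule.mem_span_range_iff_exists_fun ℤ).1 hs
    have hr0 : x.eval r = 0 := by
      have hle : symIdeal q h ≤ RingHom.ker x.eval := by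
        rw [Ideal.span_le]
        rintro y (rfl | rfl)
        · exact x.eval_rel
        · exact x.eval_sym hh
      exact hle hr
    rw [RingHom.mem_ker, map_add, hr0, add_zero, map_sum] at hg
    simp only [map_zsmul] at hg
    have hc := Fintype.linearIndependent_iff.1 (x.linearIndependent hq) c hg
    simpa [hc] using hr
  · rw [Ideal.span_le]
    rintro y (rfl | rfl)
    · exact x.eval_rel
    · exact x.eval_sym hh

/-- The basis of the image of `ℤ[F, V]`. -/
theorem MinPt.range_eq_span (x : MinPt q P D A) (hP : IsWeilPoly q P) (hq : q ≠ 0)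
    (hD : P.natDegree = 2 * D) :
    Subalgebra.toSubmodule x.eval.range = Submodule.span ℤ (Set.range fun i => x.eval (gens D i)) := by
  refine le_antisymm ?_ ?_
  · rintro - ⟨g, rfl⟩
    obtain ⟨h, hh⟩ := exists_isSymOf hP hq hD
    obtain ⟨s, hs, r, hr, rfl⟩ := Submodule.mem_sup.1 (gens_span hh hP hq hD g)
    have hr0 : x.eval r = 0 := by
      rw [← RingHom.mem_ker, x.ker_eq hh hP hq hD]
      exact hr
    show x.eval (s + r) ∈ _
    rw [map_add, hr0, add_zero]
    rw [← Function.comp_def, Set.range_comp, ← AlgHom.coe_toLinearMap, ← Submodule.map_span]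
    exact ⟨s, hs, rfl⟩
  · rw [Submodule.span_le]
    rintro - ⟨i, rfl⟩
    exact ⟨gens D i, rfl⟩

end Groth.Agent.WeilNumLib
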